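import Cfsg.Agent.H368.SR.TwFPow

/-!
# `²F₄(q)` and the Tits group have elements which are not real (TEAM SR, S4971; helper368)

`x = o 0 1 * e 2 1 0 * e 4 1 0` is a regular unipotent element, `x ^ 8 = z = e 2 0 1`; an element inverting `x`
lies in `C(z) = ⟨X_0, …, X_8⟩`, in the Borel subgroup, and inverts an element of order 4 of the Borel subgroup of
the Suzuki group `⟨X_0, X_8⟩`.
-/

set_option autoImplicit false
set_option linter.unusedSectionVars false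

open Cfsg

namespace Cfsg.Agent.H368.SR.TwF

open Cfsg.Agent.SplitTwo Cfsg.Agent.SplitTwo.ZS Cfsg.Agent.TitsThree.RankTwoZ Cfsg.Agent.KFacts.TwF4
open Cfsg.Agent.KFacts.TwF4.Arc Cfsg.Agent.KFacts.TwF4.Perf
open Cfsg.Agent.H721.SR Cfsg.Agent.H368.SR.TwFPow
open scoped commutatorElement

universe u

variable {F : Type*} [Field F] {σ : F →+* F} {G : Type u} [Group G] (S : Full σ G)

include S in
theorem no_root (a : F) : a + σ a ≠ 1 := by
  intro h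
  have h1 : σ a + a ^ 2 = 1 := by
    have := congrArg σ h
    rwa [map_add, map_one, S.sq] at this
  have h2 : a ^ 2 = a := by
    have h3 : a ^ 2 + (σ a + σ a) = a + (σ a + σ a) := by
      calc a ^ 2 + (σ a + σ a) = (σ a + a ^ 2) + σ a := by ring
        _ = (a + σ a) + σ a := by rw [h1, h]
        _ = a + (σ a + σ a) := by ring
    rwa [char2 S, add_zero, add_zero] at h3
  have h3 : a * (a - 1) = 0 := by
    rw [mul_sub, mul_one, ← pow_two, h2, sub_self]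
  rcases mul_eq_zero.1 h3 with h4 | h4
  · rw [h4, map_zero, add_zero] at h
    exact zero_ne_one h
  · have h5 : a = 1 := sub_eq_zero.1 h4
    rw [h5, map_one, char2 S] at h
    exact zero_ne_one h

/-- **`x` is not inverted** -/
theorem nreal [Finite F] {t : G} (h : t * x S * t⁻¹ = (x S)⁻¹) : False := by
  have Z8 := S.zsys8
  have hzZ : S.e 2 0 1 ∈ S.Zc 2 := S.mem_Zc.2 ⟨1, rfl⟩
  have hz1 : S.e 2 0 1 ≠ 1 := fun h => one_ne_zero (S.e_eq_one h).2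
  have hc : t * S.e 2 0 1 * t⁻¹ = S.e 2 0 1 := by
    rw [← x_pow S, ← conj_pow, h, inv_pow, x_pow, z_inv]
  have htPL : t ∈ S.PL := by
    rw [← S.centralizer_z hzZ hz1, Subgroup.mem_centralizer_singleton_iff]
    calc t * S.e 2 0 1 = t * S.e 2 0 1 * t⁻¹ * t := by group
      _ = S.e 2 0 1 * t := by rw [hc]
  set v : G := S.o 0 1 * S.e 2 1 0 with hv
  set y : G := S.e 4 1 0 with hy
  have hxv : x S = v * y := by
    unfold x
    rw [hv, hy, mul_assoc]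
  have hvQ : v ∈ S.Q := mul_mem (mem_J ((mem_X1 S).2 ⟨1, rfl⟩) (by norm_num) (by norm_num))
    (mem_J ((mem_X4 S).2 ⟨1, 0, rfl⟩) (by norm_num) (by norm_num))
  have hy8 : y ∈ S.XZ 8 := (mem_X8 S).2 ⟨1, 0, rfl⟩
  have hyPL : y ∈ S.PL := mem_J hy8 (by norm_num) le_rfl
  have hy1 : y ≠ 1 := fun h => one_ne_zero (S.e_eq_one h).1
  obtain ⟨q, hq, hqe⟩ : ∃ q ∈ S.Q, t * y * t⁻¹ = q * y⁻¹ := by
    refine ⟨(t * v * t⁻¹)⁻¹ * (y⁻¹ * v⁻¹ * y), ?_, ?_⟩
    · refine mul_mem (inv_mem (Q_norm S htPL hvQ)) ?_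
      have := Q_norm S (inv_mem hyPL) (inv_mem hvQ)
      rwa [inv_inv] at this
    · have h1 : (t * v * t⁻¹) * (t * y * t⁻¹) = y⁻¹ * v⁻¹ := by
        rw [hxv, mul_inv_rev] at h
        rw [← h]; group
      calc t * y * t⁻¹ = (t * v * t⁻¹)⁻¹ * ((t * v * t⁻¹) * (t * y * t⁻¹)) := by group
        _ = _ := by rw [h1]; group
  rcases S.form_PL htPL with ⟨b, hb, τ, hτ, rfl⟩ | ⟨b, hb, τ, hτ, w, hw, rfl⟩
  · obtain ⟨b', hb', w, hw, rfl⟩ := Z8.split_rr (a := 1) (b := 8) (by norm_num) (by norm_num) hb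
    have hb'Q : b' ∈ S.Q := hb'
    obtain ⟨c, d, rfl⟩ := S.mem_T.1 hτ
    obtain ⟨a, β, rfl⟩ := (mem_X8 S).1 hw
    set χ : F := (chE σ 4 c d : F) with hχ
    have hy1' : S.h c d * y * (S.h c d)⁻¹ = S.e 4 χ 0 := by
      rw [hy, S.h_e, ← hχ, mul_one, mul_zero]
    have hy2 : S.e 4 a β * S.e 4 χ 0 * (S.e 4 a β)⁻¹ ∈ S.XZ 8 :=
      mul_mem (mul_mem hw ((mem_X8 S).2 ⟨_, _, rfl⟩)) (inv_mem hw)
    set y2 := S.e 4 a β * S.e 4 χ 0 * (S.e 4 a β)⁻¹ with hy2'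
    have e1 : b' * S.e 4 a β * S.h c d * y * (b' * S.e 4 a β * S.h c d)⁻¹ = b' * (y2 * b'⁻¹ * y2⁻¹) * y2 := by
      calc b' * S.e 4 a β * S.h c d * y * (b' * S.e 4 a β * S.h c d)⁻¹ =
          b' * (S.e 4 a β * (S.h c d * y * (S.h c d)⁻¹) * (S.e 4 a β)⁻¹) * b'⁻¹ := by group
        _ = b' * y2 * b'⁻¹ := by rw [hy1']
        _ = _ := by group
    rw [e1] at hqe
    have hq2 : b' * (y2 * b'⁻¹ * y2⁻¹) ∈ S.Q :=
      mul_mem hb'Q (Q_norm S (mem_J hy2 (by norm_num) le_rfl) (inv_mem hb'Q))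
    have e2 : y2 * y = (b' * (y2 * b'⁻¹ * y2⁻¹))⁻¹ * q := by
      calc y2 * y = (b' * (y2 * b'⁻¹ * y2⁻¹))⁻¹ * (b' * (y2 * b'⁻¹ * y2⁻¹) * y2) * y := by group
        _ = _ := by rw [hqe]; group
    have e3 : y2 * y = 1 := by
      refine Z8.inter' (k := 8) (mul_mem hy2 hy8) ?_
      rw [e2]
      exact mul_mem (inv_mem hq2) hq
    have e4 : S.e 4 a β * S.e 4 χ 0 = S.e 4 1 1 * S.e 4 a β := by
      have h5 : y2 = S.e 4 1 1 := by
        rw [eq_inv_of_mul_eq_one_left e3, hy, e_inv, map_one, mul_one, zero_add]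
      calc S.e 4 a β * S.e 4 χ 0 = y2 * S.e 4 a β := by rw [hy2']; group
        _ = _ := by rw [h5]
    rw [S.e_mul, S.e_mul] at e4
    obtain ⟨e5, e6⟩ := S.injE _ _ _ _ _ e4
    have e7 : χ = 1 := by
      rw [add_comm 1 a] at e5
      exact add_left_cancel e5
    rw [e7, map_one, mul_one, one_mul, add_zero] at e6
    apply no_root S a
    have e8 : (β + β) + (a + σ a) = 1 + (σ a + σ a) := by
      calc (β + β) + (a + σ a) = β + (β + a) + σ a := by ring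
        _ = β + (1 + β + σ a) + σ a := by rw [e6]
        _ = (β + β) + 1 + (σ a + σ a) := by ring
        _ = 1 + (σ a + σ a) := by rw [char2 S β, zero_add]
    rwa [char2 S, char2 S, zero_add, add_zero] at e8
  · set y3 := w * y * w⁻¹ with hy3
    have hy3' : y3 ∈ S.XZ 8 := mul_mem (mul_mem hw hy8) (inv_mem hw)
    have hy4 : S.n2 * y3 * S.n2⁻¹ ∈ S.XZ 0 := S.n2_refl.mem' hy3' (by norm_num)
    have e1 : b * (τ * S.n2) * w * y * (b * (τ * S.n2) * w)⁻¹ = b * (τ * (S.n2 * y3 * S.n2⁻¹) * τ⁻¹) * b⁻¹ := by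
      rw [hy3]; group
    rw [e1] at hqe
    have e2 : S.n2 * y3 * S.n2⁻¹ = τ⁻¹ * (b⁻¹ * (q * y⁻¹) * b) * τ := by
      rw [← hqe]; group
    have hU : ∀ g ∈ J S.XZ 1 8, g ∈ J S.XZ 1 8 ⊔ S.T := fun g hg => Subgroup.mem_sup_left hg
    have hTT : ∀ g ∈ S.T, g ∈ J S.XZ 1 8 ⊔ S.T := fun g hg => Subgroup.mem_sup_right hg
    have hqU : q ∈ J S.XZ 1 8 := J_mono le_rfl (by norm_num) hq
    have e3 : S.n2 * y3 * S.n2⁻¹ = 1 := by
      refine H127.TwFInv.X0_inf_BT S hy4 ?_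
      rw [e2]
      exact mul_mem (mul_mem (inv_mem (hTT _ hτ)) (mul_mem (mul_mem (inv_mem (hU _ hb))
        (mul_mem (hU _ hqU) (inv_mem (hU _ (mem_J hy8 (by norm_num) le_rfl))))) (hU _ hb))) (hTT _ hτ)
    apply hy1
    have e4 : y = w⁻¹ * (S.n2⁻¹ * (S.n2 * y3 * S.n2⁻¹) * S.n2) * w := by rw [hy3]; group
    rw [e4, e3]; group

include S in
theorem nrel [Finite F] : NRel G := ⟨x S, fun hc => by
  obtain ⟨t, ht⟩ := isConj_iff.1 hc
  exact nreal S ht⟩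

/-- `x` lies in the derived subgroup -/
theorem x_mem : x S ∈ commutator G := by
  have hn : (commutator G).Normal := inferInstance
  have hcm : ∀ a b r : G, a * b = b * a * r → r ∈ commutator G := by
    intro a b r h
    have h1 : r = ⁅a⁻¹, b⁻¹⁆ := by
      rw [commutatorElement_def, inv_inv, inv_inv]
      calc r = a⁻¹ * b⁻¹ * (b * a * r) := by group
        _ = _ := by rw [← h]; group
    rw [h1, commutator_def]
    exact Subgroup.commutator_mem_commutator (Subgroup.mem_top _) (Subgroup.mem_top _)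
  have ho1 : S.o 1 1 ∈ commutator G := by
    refine hcm (S.e 1 1 0) (S.e 2 1 0) _ ?_
    simpa [n11] using S.e_e1 1 1 0 1 0
  have ho0 : S.o 0 1 ∈ commutator G := by
    have h1 : S.rot⁻¹ * S.o 1 1 * S.rot⁻¹⁻¹ ∈ commutator G := hn.conj_mem _ ho1 _
    have h2 : S.rot * S.o 0 1 * S.rot⁻¹ = S.o 1 1 := by simpa using S.rot_o 0 1
    rw [← h2] at h1
    have h3 : S.rot⁻¹ * (S.rot * S.o 0 1 * S.rot⁻¹) * S.rot⁻¹⁻¹ = S.o 0 1 := by group
    rwa [h3] at h1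
  have hz1 : S.e 1 0 1 ∈ commutator G := by
    refine hcm (S.o 0 1) (S.e 2 1 0) _ ?_
    simpa using S.o_e2 0 1 1 0
  have hz2 : S.e 2 0 1 ∈ commutator G := by
    have h1 : S.rot * S.e 1 0 1 * S.rot⁻¹ ∈ commutator G := hn.conj_mem _ hz1 _
    rw [S.rot_e, n11] at h1
    exact h1
  have he : S.e 2 1 0 * S.e 4 1 0 ∈ commutator G := by
    have h1 : S.rot * (S.rot * S.e 2 1 0 * S.rot⁻¹) * S.rot⁻¹ = S.e 4 1 0 := by
      rw [S.rot_e, S.rot_e, n21, n31]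
    have h2 : S.e 2 1 0 * S.e 4 1 0 = S.e 2 0 1 * ⁅(S.e 2 1 0)⁻¹, S.rot * S.rot⁆ := by
      rw [commutatorElement_def, inv_inv, ← h1, ← r_P2 S]; group
    rw [h2]
    refine mul_mem hz2 ?_
    rw [commutator_def]
    exact Subgroup.commutator_mem_commutator (Subgroup.mem_top _) (Subgroup.mem_top _)
  exact mul_mem ho0 he

include S in
theorem nrel_comm [Finite F] : NRel ↥(commutator G) := ⟨⟨x S, x_mem S⟩, fun hc => by
  obtain ⟨t, ht⟩ := isConj_iff.1 hc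
  exact nreal S (t := (t : G)) (congrArg Subtype.val ht)⟩

/-- **Row `²F₄(q)`, `q ≥ 8`.** -/
theorem nrel_2F4 {S : Type*} [Group S] (h : Cfsg.Lie.Iso2F4 S) : NRel S := by
  obtain ⟨K, _, _, m, hm, hK, ⟨e⟩⟩ := h
  have hchar := Cfsg.Agent.ChevalleyStructure.TwF4.Twisted.charP_two hK
  obtain ⟨φ, hφ⟩ := ChevalleyStructure.TwF4.TwistedFix.exists_rln hK
  exact (nrel (KFacts.TwF4.Inst.full hK hφ)).congr e.symm

theorem nrel_titsGroup : NRel ↥(commutator ↥(Cfsg.Lie.twistedF4 (ZMod 2) 1)) := by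
  have hK : Fintype.card (ZMod 2) = 2 ^ (2 * 0 + 1) := by rw [ZMod.card]; norm_num
  obtain ⟨φ, hφ⟩ := Cfsg.Agent.ChevalleyStructure.TwF4.TwistedFix.exists_rln hK
  obtain ⟨S, -⟩ : ∃ S : Full φ ↥(Cfsg.Lie.twistedF4 (ZMod 2) 1), S.R.p = 2 := by
    have h0 : ∃ S : Full φ ↥(Cfsg.Lie.twistedF4 (ZMod 2) (2 ^ 0)), S.R.p = 2 :=
      ⟨Cfsg.Agent.KFacts.TwF4.Inst.full hK hφ, rfl⟩
    rw [pow_zero] at h0
    exact h0
  exact nrel_comm S

theorem nrel_tits {S : Type*} [Group S] (h : Cfsg.Lie.IsoTits S) : NRel S := by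
  obtain ⟨e⟩ := h
  have e' := e.symm
  exact NRel.congr (G := Cfsg.Lie.TitsGroup) e' nrel_titsGroup

/-- **Row `²F₄(q)`, `q ≥ 8`.** -/
theorem rr_2F4 {S : Type*} [Group S] (h : Cfsg.Lie.Iso2F4 S) : RR S := RR.of_nrel (nrel_2F4 h)

/-- **Row Tits.** -/
theorem rr_tits {S : Type*} [Group S] (h : Cfsg.Lie.IsoTits S) : RR S := RR.of_nrel (nrel_tits h)

end Cfsg.Agent.H368.SR.TwF
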