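import Cfsg.Agent.KFacts.TwF4.TorFix
import Cfsg.Agent.H127.TwFInv
import Cfsg.Agent.H721.SR.Base

/-!
# A regular unipotent element of `²F₄(q)` (TEAM SR, S4971): the eighth power (helper368)

Collection rules for the elements `o a 1`, `e a 1 0`, `e a 0 1` of the Sylow 2-subgroup of `²F₄(2) ≤ ²F₄(q)`;
`(o 0 1 * e 2 1 0 * e 4 1 0) ^ 8 = e 2 0 1`.
-/

set_option autoImplicit false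
set_option linter.unusedSectionVars false
set_option linter.unusedSimpArgs false

namespace Cfsg.Agent.H368.SR.TwFPow

open Cfsg.Agent.KFacts.TwF4 Cfsg.Agent.KFacts.TwF4.Arc

theorem t {G : Type*} [Group G] {a b c : G} (h : a * b = c) (r : G) : a * (b * r) = c * r := by
  rw [← mul_assoc, h]

theorem rel_of {G : Type*} [Group G] {x y c w : G} (h : x * y = y * x * c) (hc : c * w = 1) :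
    y * x = x * (y * w) := by
  rw [← mul_assoc, h]
  simp only [mul_assoc, hc, mul_one]

theorem n11 : (1 : ZMod 8) + 1 = 2 := by decide
theorem n12 : (1 : ZMod 8) + 2 = 3 := by decide
theorem n13 : (1 : ZMod 8) + 3 = 4 := by decide
theorem n21 : (2 : ZMod 8) + 1 = 3 := by decide
theorem n22 : (2 : ZMod 8) + 2 = 4 := by decide
theorem n31 : (3 : ZMod 8) + 1 = 4 := by decide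

variable {F : Type*} [Field F] {σ : F →+* F} {G : Type*} [Group G] (S : Full σ G)

theorem r_O0 : S.o 0 1 * S.o 0 1 = 1 := by
  rw [S.o_add, char2 S, S.o_zero]

theorem r_O1 : S.o 1 1 * S.o 1 1 = 1 := by
  rw [S.o_add, char2 S, S.o_zero]

theorem r_O2 : S.o 2 1 * S.o 2 1 = 1 := by
  rw [S.o_add, char2 S, S.o_zero]

theorem r_O3 : S.o 3 1 * S.o 3 1 = 1 := by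
  rw [S.o_add, char2 S, S.o_zero]

theorem r_P1 : S.e 1 1 0 * S.e 1 1 0 = S.e 1 0 1 := by
  simp only [S.e_mul, char2 S, map_one, mul_one, zero_add]

theorem r_Z1 : S.e 1 0 1 * S.e 1 0 1 = 1 := by
  simp only [S.e_mul, zero_mul, add_zero, char2 S, S.e_zero]

theorem r_ZP1 : S.e 1 0 1 * S.e 1 1 0 = S.e 1 1 0 * S.e 1 0 1 := by
  simp only [S.e_mul, map_zero, zero_mul, mul_zero, zero_add, add_zero]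

theorem s_1 : S.e 1 1 1 = S.e 1 1 0 * S.e 1 0 1 := by
  simp only [S.e_mul, map_zero, mul_zero, zero_add, add_zero]

theorem r_P2 : S.e 2 1 0 * S.e 2 1 0 = S.e 2 0 1 := by
  simp only [S.e_mul, char2 S, map_one, mul_one, zero_add]

theorem r_Z2 : S.e 2 0 1 * S.e 2 0 1 = 1 := by
  simp only [S.e_mul, zero_mul, add_zero, char2 S, S.e_zero]

theorem r_ZP2 : S.e 2 0 1 * S.e 2 1 0 = S.e 2 1 0 * S.e 2 0 1 := by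
  simp only [S.e_mul, map_zero, zero_mul, mul_zero, zero_add, add_zero]

theorem s_2 : S.e 2 1 1 = S.e 2 1 0 * S.e 2 0 1 := by
  simp only [S.e_mul, map_zero, mul_zero, zero_add, add_zero]

theorem r_P3 : S.e 3 1 0 * S.e 3 1 0 = S.e 3 0 1 := by
  simp only [S.e_mul, char2 S, map_one, mul_one, zero_add]

theorem r_Z3 : S.e 3 0 1 * S.e 3 0 1 = 1 := by
  simp only [S.e_mul, zero_mul, add_zero, char2 S, S.e_zero]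

theorem r_ZP3 : S.e 3 0 1 * S.e 3 1 0 = S.e 3 1 0 * S.e 3 0 1 := by
  simp only [S.e_mul, map_zero, zero_mul, mul_zero, zero_add, add_zero]

theorem s_3 : S.e 3 1 1 = S.e 3 1 0 * S.e 3 0 1 := by
  simp only [S.e_mul, map_zero, mul_zero, zero_add, add_zero]

theorem r_P4 : S.e 4 1 0 * S.e 4 1 0 = S.e 4 0 1 := by
  simp only [S.e_mul, char2 S, map_one, mul_one, zero_add]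

theorem r_Z4 : S.e 4 0 1 * S.e 4 0 1 = 1 := by
  simp only [S.e_mul, zero_mul, add_zero, char2 S, S.e_zero]

theorem r_ZP4 : S.e 4 0 1 * S.e 4 1 0 = S.e 4 1 0 * S.e 4 0 1 := by
  simp only [S.e_mul, map_zero, zero_mul, mul_zero, zero_add, add_zero]

theorem s_4 : S.e 4 1 1 = S.e 4 1 0 * S.e 4 0 1 := by
  simp only [S.e_mul, map_zero, mul_zero, zero_add, add_zero]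

theorem r_P1_O0 : S.e 1 1 0 * S.o 0 1 = S.o 0 1 * S.e 1 1 0 := by
  simpa [S.o_zero, S.e_zero, n11, n12, n13, n21, n22, n31] using (S.o_e1 0 1 1 0).symm

theorem r_Z1_O0 : S.e 1 0 1 * S.o 0 1 = S.o 0 1 * S.e 1 0 1 := by
  simpa [S.o_zero, S.e_zero, n11, n12, n13, n21, n22, n31] using (S.o_e1 0 1 0 1).symm

theorem r_O1_P1 : S.o 1 1 * S.e 1 1 0 = S.e 1 1 0 * S.o 1 1 := by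
  simpa [S.o_zero, S.e_zero, n11, n12, n13, n21, n22, n31] using (S.e_o0 1 1 0 1).symm

theorem r_O1_Z1 : S.o 1 1 * S.e 1 0 1 = S.e 1 0 1 * S.o 1 1 := by
  simpa [S.o_zero, S.e_zero, n11, n12, n13, n21, n22, n31] using (S.e_o0 1 0 1 1).symm

theorem r_P2_O1 : S.e 2 1 0 * S.o 1 1 = S.o 1 1 * S.e 2 1 0 := by
  simpa [S.o_zero, S.e_zero, n11, n12, n13, n21, n22, n31] using (S.o_e1 1 1 1 0).symm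

theorem r_Z2_O1 : S.e 2 0 1 * S.o 1 1 = S.o 1 1 * S.e 2 0 1 := by
  simpa [S.o_zero, S.e_zero, n11, n12, n13, n21, n22, n31] using (S.o_e1 1 1 0 1).symm

theorem r_O2_P2 : S.o 2 1 * S.e 2 1 0 = S.e 2 1 0 * S.o 2 1 := by
  simpa [S.o_zero, S.e_zero, n11, n12, n13, n21, n22, n31] using (S.e_o0 2 1 0 1).symm

theorem r_O2_Z2 : S.o 2 1 * S.e 2 0 1 = S.e 2 0 1 * S.o 2 1 := by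
  simpa [S.o_zero, S.e_zero, n11, n12, n13, n21, n22, n31] using (S.e_o0 2 0 1 1).symm

theorem r_P3_O2 : S.e 3 1 0 * S.o 2 1 = S.o 2 1 * S.e 3 1 0 := by
  simpa [S.o_zero, S.e_zero, n11, n12, n13, n21, n22, n31] using (S.o_e1 2 1 1 0).symm

theorem r_Z3_O2 : S.e 3 0 1 * S.o 2 1 = S.o 2 1 * S.e 3 0 1 := by
  simpa [S.o_zero, S.e_zero, n11, n12, n13, n21, n22, n31] using (S.o_e1 2 1 0 1).symm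

theorem r_O3_P3 : S.o 3 1 * S.e 3 1 0 = S.e 3 1 0 * S.o 3 1 := by
  simpa [S.o_zero, S.e_zero, n11, n12, n13, n21, n22, n31] using (S.e_o0 3 1 0 1).symm

theorem r_O3_Z3 : S.o 3 1 * S.e 3 0 1 = S.e 3 0 1 * S.o 3 1 := by
  simpa [S.o_zero, S.e_zero, n11, n12, n13, n21, n22, n31] using (S.e_o0 3 0 1 1).symm

theorem r_P4_O3 : S.e 4 1 0 * S.o 3 1 = S.o 3 1 * S.e 4 1 0 := by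
  simpa [S.o_zero, S.e_zero, n11, n12, n13, n21, n22, n31] using (S.o_e1 3 1 1 0).symm

theorem r_Z4_O3 : S.e 4 0 1 * S.o 3 1 = S.o 3 1 * S.e 4 0 1 := by
  simpa [S.o_zero, S.e_zero, n11, n12, n13, n21, n22, n31] using (S.o_e1 3 1 0 1).symm

theorem r_O1_O0 : S.o 1 1 * S.o 0 1 = S.o 0 1 * S.o 1 1 := by
  simpa [S.o_zero, S.e_zero, n11, n12, n13, n21, n22, n31] using (S.o_o1 0 1 1).symm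

theorem r_Z2_P1 : S.e 2 0 1 * S.e 1 1 0 = S.e 1 1 0 * S.e 2 0 1 := by
  simpa [S.o_zero, S.e_zero, n11, n12, n13, n21, n22, n31] using (S.e_e1 1 1 0 0 1).symm

theorem r_P2_Z1 : S.e 2 1 0 * S.e 1 0 1 = S.e 1 0 1 * S.e 2 1 0 := by
  simpa [S.o_zero, S.e_zero, n11, n12, n13, n21, n22, n31] using (S.e_e1 1 0 1 1 0).symm

theorem r_Z2_Z1 : S.e 2 0 1 * S.e 1 0 1 = S.e 1 0 1 * S.e 2 0 1 := by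
  simpa [S.o_zero, S.e_zero, n11, n12, n13, n21, n22, n31] using (S.e_e1 1 0 1 0 1).symm

theorem r_O2_O1 : S.o 2 1 * S.o 1 1 = S.o 1 1 * S.o 2 1 := by
  simpa [S.o_zero, S.e_zero, n11, n12, n13, n21, n22, n31] using (S.o_o1 1 1 1).symm

theorem r_Z3_P2 : S.e 3 0 1 * S.e 2 1 0 = S.e 2 1 0 * S.e 3 0 1 := by
  simpa [S.o_zero, S.e_zero, n11, n12, n13, n21, n22, n31] using (S.e_e1 2 1 0 0 1).symm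

theorem r_P3_Z2 : S.e 3 1 0 * S.e 2 0 1 = S.e 2 0 1 * S.e 3 1 0 := by
  simpa [S.o_zero, S.e_zero, n11, n12, n13, n21, n22, n31] using (S.e_e1 2 0 1 1 0).symm

theorem r_Z3_Z2 : S.e 3 0 1 * S.e 2 0 1 = S.e 2 0 1 * S.e 3 0 1 := by
  simpa [S.o_zero, S.e_zero, n11, n12, n13, n21, n22, n31] using (S.e_e1 2 0 1 0 1).symm

theorem r_O3_O2 : S.o 3 1 * S.o 2 1 = S.o 2 1 * S.o 3 1 := by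
  simpa [S.o_zero, S.e_zero, n11, n12, n13, n21, n22, n31] using (S.o_o1 2 1 1).symm

theorem r_Z4_P3 : S.e 4 0 1 * S.e 3 1 0 = S.e 3 1 0 * S.e 4 0 1 := by
  simpa [S.o_zero, S.e_zero, n11, n12, n13, n21, n22, n31] using (S.e_e1 3 1 0 0 1).symm

theorem r_P4_Z3 : S.e 4 1 0 * S.e 3 0 1 = S.e 3 0 1 * S.e 4 1 0 := by
  simpa [S.o_zero, S.e_zero, n11, n12, n13, n21, n22, n31] using (S.e_e1 3 0 1 1 0).symm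

theorem r_Z4_Z3 : S.e 4 0 1 * S.e 3 0 1 = S.e 3 0 1 * S.e 4 0 1 := by
  simpa [S.o_zero, S.e_zero, n11, n12, n13, n21, n22, n31] using (S.e_e1 3 0 1 0 1).symm

theorem r_Z2_O0 : S.e 2 0 1 * S.o 0 1 = S.o 0 1 * S.e 2 0 1 := by
  simpa [S.o_zero, S.e_zero, n11, n12, n13, n21, n22, n31] using (S.o_e2 0 1 0 1).symm

theorem r_O2_Z1 : S.o 2 1 * S.e 1 0 1 = S.e 1 0 1 * S.o 2 1 := by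
  simpa [S.o_zero, S.e_zero, n11, n12, n13, n21, n22, n31] using (S.e_o1 1 0 1 1).symm

theorem r_Z3_O1 : S.e 3 0 1 * S.o 1 1 = S.o 1 1 * S.e 3 0 1 := by
  simpa [S.o_zero, S.e_zero, n11, n12, n13, n21, n22, n31] using (S.o_e2 1 1 0 1).symm

theorem r_O3_Z2 : S.o 3 1 * S.e 2 0 1 = S.e 2 0 1 * S.o 3 1 := by
  simpa [S.o_zero, S.e_zero, n11, n12, n13, n21, n22, n31] using (S.e_o1 2 0 1 1).symm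

theorem r_Z4_O2 : S.e 4 0 1 * S.o 2 1 = S.o 2 1 * S.e 4 0 1 := by
  simpa [S.o_zero, S.e_zero, n11, n12, n13, n21, n22, n31] using (S.o_e2 2 1 0 1).symm

theorem r_O2_O0 : S.o 2 1 * S.o 0 1 = S.o 0 1 * S.o 2 1 := by
  simpa [S.o_zero, S.e_zero, n11, n12, n13, n21, n22, n31] using (S.o_o2 0 1 1).symm

theorem r_P3_P1 : S.e 3 1 0 * S.e 1 1 0 = S.e 1 1 0 * S.e 3 1 0 := by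
  simpa [S.o_zero, S.e_zero, n11, n12, n13, n21, n22, n31] using (S.e_e2 1 1 0 1 0).symm

theorem r_Z3_P1 : S.e 3 0 1 * S.e 1 1 0 = S.e 1 1 0 * S.e 3 0 1 := by
  simpa [S.o_zero, S.e_zero, n11, n12, n13, n21, n22, n31] using (S.e_e2 1 1 0 0 1).symm

theorem r_P3_Z1 : S.e 3 1 0 * S.e 1 0 1 = S.e 1 0 1 * S.e 3 1 0 := by
  simpa [S.o_zero, S.e_zero, n11, n12, n13, n21, n22, n31] using (S.e_e2 1 0 1 1 0).symm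

theorem r_Z3_Z1 : S.e 3 0 1 * S.e 1 0 1 = S.e 1 0 1 * S.e 3 0 1 := by
  simpa [S.o_zero, S.e_zero, n11, n12, n13, n21, n22, n31] using (S.e_e2 1 0 1 0 1).symm

theorem r_O3_O1 : S.o 3 1 * S.o 1 1 = S.o 1 1 * S.o 3 1 := by
  simpa [S.o_zero, S.e_zero, n11, n12, n13, n21, n22, n31] using (S.o_o2 1 1 1).symm

theorem r_P4_P2 : S.e 4 1 0 * S.e 2 1 0 = S.e 2 1 0 * S.e 4 1 0 := by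
  simpa [S.o_zero, S.e_zero, n11, n12, n13, n21, n22, n31] using (S.e_e2 2 1 0 1 0).symm

theorem r_Z4_P2 : S.e 4 0 1 * S.e 2 1 0 = S.e 2 1 0 * S.e 4 0 1 := by
  simpa [S.o_zero, S.e_zero, n11, n12, n13, n21, n22, n31] using (S.e_e2 2 1 0 0 1).symm

theorem r_P4_Z2 : S.e 4 1 0 * S.e 2 0 1 = S.e 2 0 1 * S.e 4 1 0 := by
  simpa [S.o_zero, S.e_zero, n11, n12, n13, n21, n22, n31] using (S.e_e2 2 0 1 1 0).symm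

theorem r_Z4_Z2 : S.e 4 0 1 * S.e 2 0 1 = S.e 2 0 1 * S.e 4 0 1 := by
  simpa [S.o_zero, S.e_zero, n11, n12, n13, n21, n22, n31] using (S.e_e2 2 0 1 0 1).symm

theorem r_P2_P1 : S.e 2 1 0 * S.e 1 1 0 = S.e 1 1 0 * (S.e 2 1 0 * (S.o 1 1)) := by
  refine rel_of (c := S.o 1 1) ?_ ?_
  · simpa [S.o_zero, S.e_zero, s_1, s_2, s_3, s_4, n11, n12, n13, n21, n22, n31, mul_assoc] using S.e_e1 1 1 0 1 0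
  · simp only [mul_assoc, mul_one, one_mul, r_O0 S, t (r_O0 S), r_O1 S, t (r_O1 S), r_O2 S, t (r_O2 S), r_O3 S, t (r_O3 S), r_P1 S, t (r_P1 S), r_P2 S, t (r_P2 S), r_P3 S, t (r_P3 S), r_P4 S, t (r_P4 S), r_Z1 S, t (r_Z1 S), r_Z2 S, t (r_Z2 S), r_Z3 S, t (r_Z3 S), r_Z4 S, t (r_Z4 S), r_ZP1 S, t (r_ZP1 S), r_ZP2 S, t (r_ZP2 S), r_ZP3 S, t (r_ZP3 S), r_ZP4 S, t (r_ZP4 S), r_P1_O0 S, t (r_P1_O0 S), r_Z1_O0 S, t (r_Z1_O0 S), r_O1_P1 S, t (r_O1_P1 S), r_O1_Z1 S, t (r_O1_Z1 S), r_P2_O1 S, t (r_P2_O1 S), r_Z2_O1 S, t (r_Z2_O1 S), r_O2_P2 S, t (r_O2_P2 S), r_O2_Z2 S, t (r_O2_Z2 S), r_P3_O2 S, t (r_P3_O2 S), r_Z3_O2 S, t (r_Z3_O2 S), r_O3_P3 S, t (r_O3_P3 S), r_O3_Z3 S, t (r_O3_Z3 S), r_P4_O3 S, t (r_P4_O3 S), r_Z4_O3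 S, t (r_Z4_O3 S), r_O1_O0 S, t (r_O1_O0 S), r_Z2_P1 S, t (r_Z2_P1 S), r_P2_Z1 S, t (r_P2_Z1 S), r_Z2_Z1 S, t (r_Z2_Z1 S), r_O2_O1 S, t (r_O2_O1 S), r_Z3_P2 S, t (r_Z3_P2 S), r_P3_Z2 S, t (r_P3_Z2 S), r_Z3_Z2 S, t (r_Z3_Z2 S), r_O3_O2 S, t (r_O3_O2 S), r_Z4_P3 S, t (r_Z4_P3 S), r_P4_Z3 S, t (r_P4_Z3 S), r_Z4_Z3 S, t (r_Z4_Z3 S), r_Z2_O0 S, t (r_Z2_O0 S), r_O2_Z1 S, t (r_O2_Z1 S), r_Z3_O1 S, t (r_Z3_O1 S), r_O3_Z2 S, t (r_O3_Z2 S), r_Z4_O2 S, t (r_Z4_O2 S), r_O2_O0 S, t (r_O2_O0 S), r_P3_P1 S, t (r_P3_P1 S), r_Z3_P1 S, t (r_Z3_P1 S), r_P3_Z1 S, t (r_P3_Z1 S), r_Z3_Z1 S, t (r_Z3_Z1 S), r_O3_O1 S, t (r_O3_O1 S), r_P4_P2 S, t (r_P4_P2 S), r_Z4_P2 S, t (r_Z4_P2 S), r_P4_Z2 S, t (r_P4_Z2 S), r_Z4_Z2 S, t (r_Z4_Z2 S)]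

theorem r_P3_P2 : S.e 3 1 0 * S.e 2 1 0 = S.e 2 1 0 * (S.e 3 1 0 * (S.o 2 1)) := by
  refine rel_of (c := S.o 2 1) ?_ ?_
  · simpa [S.o_zero, S.e_zero, s_1, s_2, s_3, s_4, n11, n12, n13, n21, n22, n31, mul_assoc] using S.e_e1 2 1 0 1 0
  · simp only [mul_assoc, mul_one, one_mul, r_O0 S, t (r_O0 S), r_O1 S, t (r_O1 S), r_O2 S, t (r_O2 S), r_O3 S, t (r_O3 S), r_P1 S, t (r_P1 S), r_P2 S, t (r_P2 S), r_P3 S, t (r_P3 S), r_P4 S, t (r_P4 S), r_Z1 S, t (r_Z1 S), r_Z2 S, t (r_Z2 S), r_Z3 S, t (r_Z3 S), r_Z4 S, t (r_Z4 S), r_ZP1 S, t (r_ZP1 S), r_ZP2 S, t (r_ZP2 S), r_ZP3 S, t (r_ZP3 S), r_ZP4 S, t (r_ZP4 S), r_P1_O0 S, t (r_P1_O0 S), r_Z1_O0 S, t (r_Z1_O0 S), r_O1_P1 S, t (r_O1_P1 S), r_O1_Z1 S, t (r_O1_Z1 S), r_P2_O1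 S, t (r_P2_O1 S), r_Z2_O1 S, t (r_Z2_O1 S), r_O2_P2 S, t (r_O2_P2 S), r_O2_Z2 S, t (r_O2_Z2 S), r_P3_O2 S, t (r_P3_O2 S), r_Z3_O2 S, t (r_Z3_O2 S), r_O3_P3 S, t (r_O3_P3 S), r_O3_Z3 S, t (r_O3_Z3 S), r_P4_O3 S, t (r_P4_O3 S), r_Z4_O3 S, t (r_Z4_O3 S), r_O1_O0 S, t (r_O1_O0 S), r_Z2_P1 S, t (r_Z2_P1 S), r_P2_Z1 S, t (r_P2_Z1 S), r_Z2_Z1 S, t (r_Z2_Z1 S), r_O2_O1 S, t (r_O2_O1 S), r_Z3_P2 S, t (r_Z3_P2 S), r_P3_Z2 S, t (r_P3_Z2 S), r_Z3_Z2 S, t (r_Z3_Z2 S), r_O3_O2 S, t (r_O3_O2 S), r_Z4_P3 S, t (r_Z4_P3 S), r_P4_Z3 S, t (r_P4_Z3 S), r_Z4_Z3 S, t (r_Z4_Z3 S), r_Z2_O0 S, t (r_Z2_O0 S), r_O2_Z1 S, t (r_O2_Z1 S), r_Z3_O1 S, t (r_Z3_O1 S), r_O3_Z2 S, t (r_O3_Z2 S), r_Z4_O2 S, t (r_Z4_O2 S), r_O2_O0 S, t (r_O2_O0 S),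 r_P3_P1 S, t (r_P3_P1 S), r_Z3_P1 S, t (r_Z3_P1 S), r_P3_Z1 S, t (r_P3_Z1 S), r_Z3_Z1 S, t (r_Z3_Z1 S), r_O3_O1 S, t (r_O3_O1 S), r_P4_P2 S, t (r_P4_P2 S), r_Z4_P2 S, t (r_Z4_P2 S), r_P4_Z2 S, t (r_P4_Z2 S), r_Z4_Z2 S, t (r_Z4_Z2 S), r_P2_P1 S, t (r_P2_P1 S)]

theorem r_P4_P3 : S.e 4 1 0 * S.e 3 1 0 = S.e 3 1 0 * (S.e 4 1 0 * (S.o 3 1)) := by
  refine rel_of (c := S.o 3 1) ?_ ?_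
  · simpa [S.o_zero, S.e_zero, s_1, s_2, s_3, s_4, n11, n12, n13, n21, n22, n31, mul_assoc] using S.e_e1 3 1 0 1 0
  · simp only [mul_assoc, mul_one, one_mul, r_O0 S, t (r_O0 S), r_O1 S, t (r_O1 S), r_O2 S, t (r_O2 S), r_O3 S, t (r_O3 S), r_P1 S, t (r_P1 S), r_P2 S, t (r_P2 S), r_P3 S, t (r_P3 S), r_P4 S, t (r_P4 S), r_Z1 S, t (r_Z1 S), r_Z2 S, t (r_Z2 S), r_Z3 S, t (r_Z3 S), r_Z4 S, t (r_Z4 S), r_ZP1 S, t (r_ZP1 S), r_ZP2 S, t (r_ZP2 S), r_ZP3 S, t (r_ZP3 S), r_ZP4 S, t (r_ZP4 S), r_P1_O0 S, t (r_P1_O0 S), r_Z1_O0 S, t (r_Z1_O0 S), r_O1_P1 S, t (r_O1_P1 S), r_O1_Z1 S, t (r_O1_Z1 S), r_P2_O1 S, t (r_P2_O1 S), r_Z2_O1 S, t (r_Z2_O1 S), r_O2_P2 S, t (r_O2_P2 S), r_O2_Z2 S, t (r_O2_Z2 S), r_P3_O2 S, t (r_P3_O2 S),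 r_Z3_O2 S, t (r_Z3_O2 S), r_O3_P3 S, t (r_O3_P3 S), r_O3_Z3 S, t (r_O3_Z3 S), r_P4_O3 S, t (r_P4_O3 S), r_Z4_O3 S, t (r_Z4_O3 S), r_O1_O0 S, t (r_O1_O0 S), r_Z2_P1 S, t (r_Z2_P1 S), r_P2_Z1 S, t (r_P2_Z1 S), r_Z2_Z1 S, t (r_Z2_Z1 S), r_O2_O1 S, t (r_O2_O1 S), r_Z3_P2 S, t (r_Z3_P2 S), r_P3_Z2 S, t (r_P3_Z2 S), r_Z3_Z2 S, t (r_Z3_Z2 S), r_O3_O2 S, t (r_O3_O2 S), r_Z4_P3 S, t (r_Z4_P3 S), r_P4_Z3 S, t (r_P4_Z3 S), r_Z4_Z3 S, t (r_Z4_Z3 S), r_Z2_O0 S, t (r_Z2_O0 S), r_O2_Z1 S, t (r_O2_Z1 S), r_Z3_O1 S, t (r_Z3_O1 S), r_O3_Z2 S, t (r_O3_Z2 S), r_Z4_O2 S, t (r_Z4_O2 S), r_O2_O0 S, t (r_O2_O0 S), r_P3_P1 S, t (r_P3_P1 S), r_Z3_P1 S, t (r_Z3_P1 S), r_P3_Z1 S, t (r_P3_Z1 S), r_Z3_Z1 S, t (r_Z3_Z1 S), r_O3_O1 S, t (r_O3_O1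 S), r_P4_P2 S, t (r_P4_P2 S), r_Z4_P2 S, t (r_Z4_P2 S), r_P4_Z2 S, t (r_P4_Z2 S), r_Z4_Z2 S, t (r_Z4_Z2 S), r_P2_P1 S, t (r_P2_P1 S), r_P3_P2 S, t (r_P3_P2 S)]

theorem r_P2_O0 : S.e 2 1 0 * S.o 0 1 = S.o 0 1 * (S.e 2 1 0 * (S.e 1 0 1)) := by
  refine rel_of (c := S.e 1 0 1) ?_ ?_
  · simpa [S.o_zero, S.e_zero, s_1, s_2, s_3, s_4, n11, n12, n13, n21, n22, n31, mul_assoc] using S.o_e2 0 1 1 0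
  · simp only [mul_assoc, mul_one, one_mul, r_O0 S, t (r_O0 S), r_O1 S, t (r_O1 S), r_O2 S, t (r_O2 S), r_O3 S, t (r_O3 S), r_P1 S, t (r_P1 S), r_P2 S, t (r_P2 S), r_P3 S, t (r_P3 S), r_P4 S, t (r_P4 S), r_Z1 S, t (r_Z1 S), r_Z2 S, t (r_Z2 S), r_Z3 S, t (r_Z3 S), r_Z4 S, t (r_Z4 S), r_ZP1 S, t (r_ZP1 S), r_ZP2 S, t (r_ZP2 S), r_ZP3 S, t (r_ZP3 S), r_ZP4 S, t (r_ZP4 S), r_P1_O0 S, t (r_P1_O0 S), r_Z1_O0 S, t (r_Z1_O0 S), r_O1_P1 S, t (r_O1_P1 S), r_O1_Z1 S, t (r_O1_Z1 S), r_P2_O1 S, t (r_P2_O1 S), r_Z2_O1 S, t (r_Z2_O1 S), r_O2_P2 S, t (r_O2_P2 S), r_O2_Z2 S, t (r_O2_Z2 S), r_P3_O2 S, t (r_P3_O2 S), r_Z3_O2 S, t (r_Z3_O2 S), r_O3_P3 S, t (r_O3_P3 S), r_O3_Z3 S, t (r_O3_Z3 S), r_P4_O3 S, t (r_P4_O3 S), r_Z4_O3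 S, t (r_Z4_O3 S), r_O1_O0 S, t (r_O1_O0 S), r_Z2_P1 S, t (r_Z2_P1 S), r_P2_Z1 S, t (r_P2_Z1 S), r_Z2_Z1 S, t (r_Z2_Z1 S), r_O2_O1 S, t (r_O2_O1 S), r_Z3_P2 S, t (r_Z3_P2 S), r_P3_Z2 S, t (r_P3_Z2 S), r_Z3_Z2 S, t (r_Z3_Z2 S), r_O3_O2 S, t (r_O3_O2 S), r_Z4_P3 S, t (r_Z4_P3 S), r_P4_Z3 S, t (r_P4_Z3 S), r_Z4_Z3 S, t (r_Z4_Z3 S), r_Z2_O0 S, t (r_Z2_O0 S), r_O2_Z1 S, t (r_O2_Z1 S), r_Z3_O1 S, t (r_Z3_O1 S), r_O3_Z2 S, t (r_O3_Z2 S), r_Z4_O2 S, t (r_Z4_O2 S), r_O2_O0 S, t (r_O2_O0 S), r_P3_P1 S, t (r_P3_P1 S), r_Z3_P1 S, t (r_Z3_P1 S), r_P3_Z1 S, t (r_P3_Z1 S), r_Z3_Z1 S, t (r_Z3_Z1 S), r_O3_O1 S, t (r_O3_O1 S), r_P4_P2 S, t (r_P4_P2 S), r_Z4_P2 S, t (r_Z4_P2 S), r_P4_Z2 S, t (r_P4_Z2 S), r_Z4_Z2 S, t (r_Z4_Z2 S),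 r_P2_P1 S, t (r_P2_P1 S), r_P3_P2 S, t (r_P3_P2 S), r_P4_P3 S, t (r_P4_P3 S)]

theorem r_O2_P1 : S.o 2 1 * S.e 1 1 0 = S.e 1 1 0 * (S.o 2 1 * (S.e 2 0 1)) := by
  refine rel_of (c := S.e 2 0 1) ?_ ?_
  · simpa [S.o_zero, S.e_zero, s_1, s_2, s_3, s_4, n11, n12, n13, n21, n22, n31, mul_assoc] using S.e_o1 1 1 0 1
  · simp only [mul_assoc, mul_one, one_mul, r_O0 S, t (r_O0 S), r_O1 S, t (r_O1 S), r_O2 S, t (r_O2 S), r_O3 S, t (r_O3 S), r_P1 S, t (r_P1 S), r_P2 S, t (r_P2 S), r_P3 S, t (r_P3 S), r_P4 S, t (r_P4 S), r_Z1 S, t (r_Z1 S), r_Z2 S, t (r_Z2 S), r_Z3 S, t (r_Z3 S), r_Z4 S, t (r_Z4 S), r_ZP1 S, t (r_ZP1 S), r_ZP2 S, t (r_ZP2 S), r_ZP3 S, t (r_ZP3 S), r_ZP4 S, t (r_ZP4 S), r_P1_O0 S, t (r_P1_O0 S), r_Z1_O0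 S, t (r_Z1_O0 S), r_O1_P1 S, t (r_O1_P1 S), r_O1_Z1 S, t (r_O1_Z1 S), r_P2_O1 S, t (r_P2_O1 S), r_Z2_O1 S, t (r_Z2_O1 S), r_O2_P2 S, t (r_O2_P2 S), r_O2_Z2 S, t (r_O2_Z2 S), r_P3_O2 S, t (r_P3_O2 S), r_Z3_O2 S, t (r_Z3_O2 S), r_O3_P3 S, t (r_O3_P3 S), r_O3_Z3 S, t (r_O3_Z3 S), r_P4_O3 S, t (r_P4_O3 S), r_Z4_O3 S, t (r_Z4_O3 S), r_O1_O0 S, t (r_O1_O0 S), r_Z2_P1 S, t (r_Z2_P1 S), r_P2_Z1 S, t (r_P2_Z1 S), r_Z2_Z1 S, t (r_Z2_Z1 S), r_O2_O1 S, t (r_O2_O1 S), r_Z3_P2 S, t (r_Z3_P2 S), r_P3_Z2 S, t (r_P3_Z2 S), r_Z3_Z2 S, t (r_Z3_Z2 S), r_O3_O2 S, t (r_O3_O2 S), r_Z4_P3 S, t (r_Z4_P3 S), r_P4_Z3 S, t (r_P4_Z3 S), r_Z4_Z3 S, t (r_Z4_Z3 S), r_Z2_O0 S, t (r_Z2_O0 S), r_O2_Z1 S, t (r_O2_Z1 S), r_Z3_O1 S, t (r_Z3_O1 S),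 r_O3_Z2 S, t (r_O3_Z2 S), r_Z4_O2 S, t (r_Z4_O2 S), r_O2_O0 S, t (r_O2_O0 S), r_P3_P1 S, t (r_P3_P1 S), r_Z3_P1 S, t (r_Z3_P1 S), r_P3_Z1 S, t (r_P3_Z1 S), r_Z3_Z1 S, t (r_Z3_Z1 S), r_O3_O1 S, t (r_O3_O1 S), r_P4_P2 S, t (r_P4_P2 S), r_Z4_P2 S, t (r_Z4_P2 S), r_P4_Z2 S, t (r_P4_Z2 S), r_Z4_Z2 S, t (r_Z4_Z2 S), r_P2_P1 S, t (r_P2_P1 S), r_P3_P2 S, t (r_P3_P2 S), r_P4_P3 S, t (r_P4_P3 S), r_P2_O0 S, t (r_P2_O0 S)]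

theorem r_P3_O1 : S.e 3 1 0 * S.o 1 1 = S.o 1 1 * (S.e 3 1 0 * (S.e 2 0 1)) := by
  refine rel_of (c := S.e 2 0 1) ?_ ?_
  · simpa [S.o_zero, S.e_zero, s_1, s_2, s_3, s_4, n11, n12, n13, n21, n22, n31, mul_assoc] using S.o_e2 1 1 1 0
  · simp only [mul_assoc, mul_one, one_mul, r_O0 S, t (r_O0 S), r_O1 S, t (r_O1 S), r_O2 S, t (r_O2 S), r_O3 S, t (r_O3 S), r_P1 S, t (r_P1 S), r_P2 S, t (r_P2 S), r_P3 S, t (r_P3 S), r_P4 S, t (r_P4 S), r_Z1 S, t (r_Z1 S), r_Z2 S, t (r_Z2 S), r_Z3 S, t (r_Z3 S), r_Z4 S, t (r_Z4 S), r_ZP1 S, t (r_ZP1 S), r_ZP2 S, t (r_ZP2 S), r_ZP3 S, t (r_ZP3 S), r_ZP4 S, t (r_ZP4 S), r_P1_O0 S, t (r_P1_O0 S), r_Z1_O0 S, t (r_Z1_O0 S), r_O1_P1 S, t (r_O1_P1 S), r_O1_Z1 S, t (r_O1_Z1 S), r_P2_O1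 S, t (r_P2_O1 S), r_Z2_O1 S, t (r_Z2_O1 S), r_O2_P2 S, t (r_O2_P2 S), r_O2_Z2 S, t (r_O2_Z2 S), r_P3_O2 S, t (r_P3_O2 S), r_Z3_O2 S, t (r_Z3_O2 S), r_O3_P3 S, t (r_O3_P3 S), r_O3_Z3 S, t (r_O3_Z3 S), r_P4_O3 S, t (r_P4_O3 S), r_Z4_O3 S, t (r_Z4_O3 S), r_O1_O0 S, t (r_O1_O0 S), r_Z2_P1 S, t (r_Z2_P1 S), r_P2_Z1 S, t (r_P2_Z1 S), r_Z2_Z1 S, t (r_Z2_Z1 S), r_O2_O1 S, t (r_O2_O1 S), r_Z3_P2 S, t (r_Z3_P2 S), r_P3_Z2 S, t (r_P3_Z2 S), r_Z3_Z2 S, t (r_Z3_Z2 S), r_O3_O2 S, t (r_O3_O2 S), r_Z4_P3 S, t (r_Z4_P3 S), r_P4_Z3 S, t (r_P4_Z3 S), r_Z4_Z3 S, t (r_Z4_Z3 S), r_Z2_O0 S, t (r_Z2_O0 S), r_O2_Z1 S, t (r_O2_Z1 S), r_Z3_O1 S, t (r_Z3_O1 S), r_O3_Z2 S, t (r_O3_Z2 S), r_Z4_O2 S, t (r_Z4_O2 S), r_O2_O0 S, t (r_O2_O0 S),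 r_P3_P1 S, t (r_P3_P1 S), r_Z3_P1 S, t (r_Z3_P1 S), r_P3_Z1 S, t (r_P3_Z1 S), r_Z3_Z1 S, t (r_Z3_Z1 S), r_O3_O1 S, t (r_O3_O1 S), r_P4_P2 S, t (r_P4_P2 S), r_Z4_P2 S, t (r_Z4_P2 S), r_P4_Z2 S, t (r_P4_Z2 S), r_Z4_Z2 S, t (r_Z4_Z2 S), r_P2_P1 S, t (r_P2_P1 S), r_P3_P2 S, t (r_P3_P2 S), r_P4_P3 S, t (r_P4_P3 S), r_P2_O0 S, t (r_P2_O0 S), r_O2_P1 S, t (r_O2_P1 S)]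

theorem r_O3_P2 : S.o 3 1 * S.e 2 1 0 = S.e 2 1 0 * (S.o 3 1 * (S.e 3 0 1)) := by
  refine rel_of (c := S.e 3 0 1) ?_ ?_
  · simpa [S.o_zero, S.e_zero, s_1, s_2, s_3, s_4, n11, n12, n13, n21, n22, n31, mul_assoc] using S.e_o1 2 1 0 1
  · simp only [mul_assoc, mul_one, one_mul, r_O0 S, t (r_O0 S), r_O1 S, t (r_O1 S), r_O2 S, t (r_O2 S), r_O3 S, t (r_O3 S), r_P1 S, t (r_P1 S), r_P2 S, t (r_P2 S), r_P3 S, t (r_P3 S), r_P4 S, t (r_P4 S), r_Z1 S, t (r_Z1 S), r_Z2 S, t (r_Z2 S), r_Z3 S, t (r_Z3 S), r_Z4 S, t (r_Z4 S), r_ZP1 S, t (r_ZP1 S), r_ZP2 S, t (r_ZP2 S), r_ZP3 S, t (r_ZP3 S), r_ZP4 S, t (r_ZP4 S), r_P1_O0 S, t (r_P1_O0 S), r_Z1_O0 S, t (r_Z1_O0 S), r_O1_P1 S, t (r_O1_P1 S), r_O1_Z1 S, t (r_O1_Z1 S), r_P2_O1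 S, t (r_P2_O1 S), r_Z2_O1 S, t (r_Z2_O1 S), r_O2_P2 S, t (r_O2_P2 S), r_O2_Z2 S, t (r_O2_Z2 S), r_P3_O2 S, t (r_P3_O2 S), r_Z3_O2 S, t (r_Z3_O2 S), r_O3_P3 S, t (r_O3_P3 S), r_O3_Z3 S, t (r_O3_Z3 S), r_P4_O3 S, t (r_P4_O3 S), r_Z4_O3 S, t (r_Z4_O3 S), r_O1_O0 S, t (r_O1_O0 S), r_Z2_P1 S, t (r_Z2_P1 S), r_P2_Z1 S, t (r_P2_Z1 S), r_Z2_Z1 S, t (r_Z2_Z1 S), r_O2_O1 S, t (r_O2_O1 S), r_Z3_P2 S, t (r_Z3_P2 S), r_P3_Z2 S, t (r_P3_Z2 S), r_Z3_Z2 S, t (r_Z3_Z2 S), r_O3_O2 S, t (r_O3_O2 S), r_Z4_P3 S, t (r_Z4_P3 S), r_P4_Z3 S, t (r_P4_Z3 S), r_Z4_Z3 S, t (r_Z4_Z3 S), r_Z2_O0 S, t (r_Z2_O0 S), r_O2_Z1 S, t (r_O2_Z1 S), r_Z3_O1 S, t (r_Z3_O1 S), r_O3_Z2 S, t (r_O3_Z2 S), r_Z4_O2 S, t (r_Z4_O2 S), r_O2_O0 S, t (r_O2_O0 S),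 r_P3_P1 S, t (r_P3_P1 S), r_Z3_P1 S, t (r_Z3_P1 S), r_P3_Z1 S, t (r_P3_Z1 S), r_Z3_Z1 S, t (r_Z3_Z1 S), r_O3_O1 S, t (r_O3_O1 S), r_P4_P2 S, t (r_P4_P2 S), r_Z4_P2 S, t (r_Z4_P2 S), r_P4_Z2 S, t (r_P4_Z2 S), r_Z4_Z2 S, t (r_Z4_Z2 S), r_P2_P1 S, t (r_P2_P1 S), r_P3_P2 S, t (r_P3_P2 S), r_P4_P3 S, t (r_P4_P3 S), r_P2_O0 S, t (r_P2_O0 S), r_O2_P1 S, t (r_O2_P1 S), r_P3_O1 S, t (r_P3_O1 S)]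

theorem r_P4_O2 : S.e 4 1 0 * S.o 2 1 = S.o 2 1 * (S.e 4 1 0 * (S.e 3 0 1)) := by
  refine rel_of (c := S.e 3 0 1) ?_ ?_
  · simpa [S.o_zero, S.e_zero, s_1, s_2, s_3, s_4, n11, n12, n13, n21, n22, n31, mul_assoc] using S.o_e2 2 1 1 0
  · simp only [mul_assoc, mul_one, one_mul, r_O0 S, t (r_O0 S), r_O1 S, t (r_O1 S), r_O2 S, t (r_O2 S), r_O3 S, t (r_O3 S), r_P1 S, t (r_P1 S), r_P2 S, t (r_P2 S), r_P3 S, t (r_P3 S), r_P4 S, t (r_P4 S), r_Z1 S, t (r_Z1 S), r_Z2 S, t (r_Z2 S), r_Z3 S, t (r_Z3 S), r_Z4 S, t (r_Z4 S), r_ZP1 S, t (r_ZP1 S), r_ZP2 S, t (r_ZP2 S), r_ZP3 S, t (r_ZP3 S), r_ZP4 S, t (r_ZP4 S), r_P1_O0 S, t (r_P1_O0 S), r_Z1_O0 S, t (r_Z1_O0 S), r_O1_P1 S, t (r_O1_P1 S), r_O1_Z1 S, t (r_O1_Z1 S), r_P2_O1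 S, t (r_P2_O1 S), r_Z2_O1 S, t (r_Z2_O1 S), r_O2_P2 S, t (r_O2_P2 S), r_O2_Z2 S, t (r_O2_Z2 S), r_P3_O2 S, t (r_P3_O2 S), r_Z3_O2 S, t (r_Z3_O2 S), r_O3_P3 S, t (r_O3_P3 S), r_O3_Z3 S, t (r_O3_Z3 S), r_P4_O3 S, t (r_P4_O3 S), r_Z4_O3 S, t (r_Z4_O3 S), r_O1_O0 S, t (r_O1_O0 S), r_Z2_P1 S, t (r_Z2_P1 S), r_P2_Z1 S, t (r_P2_Z1 S), r_Z2_Z1 S, t (r_Z2_Z1 S), r_O2_O1 S, t (r_O2_O1 S), r_Z3_P2 S, t (r_Z3_P2 S), r_P3_Z2 S, t (r_P3_Z2 S), r_Z3_Z2 S, t (r_Z3_Z2 S), r_O3_O2 S, t (r_O3_O2 S), r_Z4_P3 S, t (r_Z4_P3 S), r_P4_Z3 S, t (r_P4_Z3 S), r_Z4_Z3 S, t (r_Z4_Z3 S), r_Z2_O0 S, t (r_Z2_O0 S), r_O2_Z1 S, t (r_O2_Z1 S), r_Z3_O1 S, t (r_Z3_O1 S), r_O3_Z2 S, t (r_O3_Z2 S), r_Z4_O2 S, t (r_Z4_O2 S), r_O2_O0 S, t (r_O2_O0 S),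 r_P3_P1 S, t (r_P3_P1 S), r_Z3_P1 S, t (r_Z3_P1 S), r_P3_Z1 S, t (r_P3_Z1 S), r_Z3_Z1 S, t (r_Z3_Z1 S), r_O3_O1 S, t (r_O3_O1 S), r_P4_P2 S, t (r_P4_P2 S), r_Z4_P2 S, t (r_Z4_P2 S), r_P4_Z2 S, t (r_P4_Z2 S), r_Z4_Z2 S, t (r_Z4_Z2 S), r_P2_P1 S, t (r_P2_P1 S), r_P3_P2 S, t (r_P3_P2 S), r_P4_P3 S, t (r_P4_P3 S), r_P2_O0 S, t (r_P2_O0 S), r_O2_P1 S, t (r_O2_P1 S), r_P3_O1 S, t (r_P3_O1 S), r_O3_P2 S, t (r_O3_P2 S)]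

theorem r_P3_O0 : S.e 3 1 0 * S.o 0 1 = S.o 0 1 * (S.e 3 1 0 * (S.e 1 0 1 * (S.o 1 1 * S.e 2 0 1))) := by
  refine rel_of (c := S.e 1 0 1 * (S.o 1 1 * S.e 2 0 1)) ?_ ?_
  · simpa [S.o_zero, S.e_zero, s_1, s_2, s_3, s_4, n11, n12, n13, n21, n22, n31, mul_assoc] using S.o_e3 0 1 1 0
  · simp only [mul_assoc, mul_one, one_mul, r_O0 S, t (r_O0 S), r_O1 S, t (r_O1 S), r_O2 S, t (r_O2 S), r_O3 S, t (r_O3 S), r_P1 S, t (r_P1 S), r_P2 S, t (r_P2 S), r_P3 S, t (r_P3 S), r_P4 S, t (r_P4 S), r_Z1 S, t (r_Z1 S), r_Z2 S, t (r_Z2 S), r_Z3 S, t (r_Z3 S), r_Z4 S, t (r_Z4 S), r_ZP1 S, t (r_ZP1 S), r_ZP2 S, t (r_ZP2 S), r_ZP3 S, t (r_ZP3 S), r_ZP4 S, t (r_ZP4 S), r_P1_O0 S, t (r_P1_O0 S), r_Z1_O0 S, t (r_Z1_O0 S), r_O1_P1 S,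 t (r_O1_P1 S), r_O1_Z1 S, t (r_O1_Z1 S), r_P2_O1 S, t (r_P2_O1 S), r_Z2_O1 S, t (r_Z2_O1 S), r_O2_P2 S, t (r_O2_P2 S), r_O2_Z2 S, t (r_O2_Z2 S), r_P3_O2 S, t (r_P3_O2 S), r_Z3_O2 S, t (r_Z3_O2 S), r_O3_P3 S, t (r_O3_P3 S), r_O3_Z3 S, t (r_O3_Z3 S), r_P4_O3 S, t (r_P4_O3 S), r_Z4_O3 S, t (r_Z4_O3 S), r_O1_O0 S, t (r_O1_O0 S), r_Z2_P1 S, t (r_Z2_P1 S), r_P2_Z1 S, t (r_P2_Z1 S), r_Z2_Z1 S, t (r_Z2_Z1 S), r_O2_O1 S, t (r_O2_O1 S), r_Z3_P2 S, t (r_Z3_P2 S), r_P3_Z2 S, t (r_P3_Z2 S), r_Z3_Z2 S, t (r_Z3_Z2 S), r_O3_O2 S, t (r_O3_O2 S), r_Z4_P3 S, t (r_Z4_P3 S), r_P4_Z3 S, t (r_P4_Z3 S), r_Z4_Z3 S, t (r_Z4_Z3 S), r_Z2_O0 S, t (r_Z2_O0 S), r_O2_Z1 S, t (r_O2_Z1 S), r_Z3_O1 S, t (r_Z3_O1 S), r_O3_Z2 S, t (r_O3_Z2 S), r_Z4_O2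 S, t (r_Z4_O2 S), r_O2_O0 S, t (r_O2_O0 S), r_P3_P1 S, t (r_P3_P1 S), r_Z3_P1 S, t (r_Z3_P1 S), r_P3_Z1 S, t (r_P3_Z1 S), r_Z3_Z1 S, t (r_Z3_Z1 S), r_O3_O1 S, t (r_O3_O1 S), r_P4_P2 S, t (r_P4_P2 S), r_Z4_P2 S, t (r_Z4_P2 S), r_P4_Z2 S, t (r_P4_Z2 S), r_Z4_Z2 S, t (r_Z4_Z2 S), r_P2_P1 S, t (r_P2_P1 S), r_P3_P2 S, t (r_P3_P2 S), r_P4_P3 S, t (r_P4_P3 S), r_P2_O0 S, t (r_P2_O0 S), r_O2_P1 S, t (r_O2_P1 S), r_P3_O1 S, t (r_P3_O1 S), r_O3_P2 S, t (r_O3_P2 S), r_P4_O2 S, t (r_P4_O2 S)]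

theorem r_Z3_O0 : S.e 3 0 1 * S.o 0 1 = S.o 0 1 * (S.e 3 0 1 * (S.e 2 0 1)) := by
  refine rel_of (c := S.e 2 0 1) ?_ ?_
  · simpa [S.o_zero, S.e_zero, s_1, s_2, s_3, s_4, n11, n12, n13, n21, n22, n31, mul_assoc] using S.o_e3 0 1 0 1
  · simp only [mul_assoc, mul_one, one_mul, r_O0 S, t (r_O0 S), r_O1 S, t (r_O1 S), r_O2 S, t (r_O2 S), r_O3 S, t (r_O3 S), r_P1 S, t (r_P1 S), r_P2 S, t (r_P2 S), r_P3 S, t (r_P3 S), r_P4 S, t (r_P4 S), r_Z1 S, t (r_Z1 S), r_Z2 S, t (r_Z2 S), r_Z3 S, t (r_Z3 S), r_Z4 S, t (r_Z4 S), r_ZP1 S, t (r_ZP1 S), r_ZP2 S, t (r_ZP2 S), r_ZP3 S, t (r_ZP3 S), r_ZP4 S, t (r_ZP4 S), r_P1_O0 S, t (r_P1_O0 S), r_Z1_O0 S, t (r_Z1_O0 S), r_O1_P1 S, t (r_O1_P1 S), r_O1_Z1 S, t (r_O1_Z1 S), r_P2_O1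 S, t (r_P2_O1 S), r_Z2_O1 S, t (r_Z2_O1 S), r_O2_P2 S, t (r_O2_P2 S), r_O2_Z2 S, t (r_O2_Z2 S), r_P3_O2 S, t (r_P3_O2 S), r_Z3_O2 S, t (r_Z3_O2 S), r_O3_P3 S, t (r_O3_P3 S), r_O3_Z3 S, t (r_O3_Z3 S), r_P4_O3 S, t (r_P4_O3 S), r_Z4_O3 S, t (r_Z4_O3 S), r_O1_O0 S, t (r_O1_O0 S), r_Z2_P1 S, t (r_Z2_P1 S), r_P2_Z1 S, t (r_P2_Z1 S), r_Z2_Z1 S, t (r_Z2_Z1 S), r_O2_O1 S, t (r_O2_O1 S), r_Z3_P2 S, t (r_Z3_P2 S), r_P3_Z2 S, t (r_P3_Z2 S), r_Z3_Z2 S, t (r_Z3_Z2 S), r_O3_O2 S, t (r_O3_O2 S), r_Z4_P3 S, t (r_Z4_P3 S), r_P4_Z3 S, t (r_P4_Z3 S), r_Z4_Z3 S, t (r_Z4_Z3 S), r_Z2_O0 S, t (r_Z2_O0 S), r_O2_Z1 S, t (r_O2_Z1 S), r_Z3_O1 S, t (r_Z3_O1 S), r_O3_Z2 S, t (r_O3_Z2 S), r_Z4_O2 S, t (r_Z4_O2 S), r_O2_O0 S, t (r_O2_O0 S),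 r_P3_P1 S, t (r_P3_P1 S), r_Z3_P1 S, t (r_Z3_P1 S), r_P3_Z1 S, t (r_P3_Z1 S), r_Z3_Z1 S, t (r_Z3_Z1 S), r_O3_O1 S, t (r_O3_O1 S), r_P4_P2 S, t (r_P4_P2 S), r_Z4_P2 S, t (r_Z4_P2 S), r_P4_Z2 S, t (r_P4_Z2 S), r_Z4_Z2 S, t (r_Z4_Z2 S), r_P2_P1 S, t (r_P2_P1 S), r_P3_P2 S, t (r_P3_P2 S), r_P4_P3 S, t (r_P4_P3 S), r_P2_O0 S, t (r_P2_O0 S), r_O2_P1 S, t (r_O2_P1 S), r_P3_O1 S, t (r_P3_O1 S), r_O3_P2 S, t (r_O3_P2 S), r_P4_O2 S, t (r_P4_O2 S), r_P3_O0 S, t (r_P3_O0 S)]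

theorem r_O3_P1 : S.o 3 1 * S.e 1 1 0 = S.e 1 1 0 * (S.o 3 1 * (S.e 2 0 1 * (S.o 2 1 * S.e 3 0 1))) := by
  refine rel_of (c := S.e 2 0 1 * (S.o 2 1 * S.e 3 0 1)) ?_ ?_
  · simpa [S.o_zero, S.e_zero, s_1, s_2, s_3, s_4, n11, n12, n13, n21, n22, n31, mul_assoc] using S.e_o2 1 1 0 1
  · simp only [mul_assoc, mul_one, one_mul, r_O0 S, t (r_O0 S), r_O1 S, t (r_O1 S), r_O2 S, t (r_O2 S), r_O3 S, t (r_O3 S), r_P1 S, t (r_P1 S), r_P2 S, t (r_P2 S), r_P3 S, t (r_P3 S), r_P4 S, t (r_P4 S), r_Z1 S, t (r_Z1 S), r_Z2 S, t (r_Z2 S), r_Z3 S, t (r_Z3 S), r_Z4 S, t (r_Z4 S), r_ZP1 S, t (r_ZP1 S), r_ZP2 S, t (r_ZP2 S), r_ZP3 S, t (r_ZP3 S), r_ZP4 S, t (r_ZP4 S), r_P1_O0 S, t (r_P1_O0 S), r_Z1_O0 S, t (r_Z1_O0 S), r_O1_P1 S,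 t (r_O1_P1 S), r_O1_Z1 S, t (r_O1_Z1 S), r_P2_O1 S, t (r_P2_O1 S), r_Z2_O1 S, t (r_Z2_O1 S), r_O2_P2 S, t (r_O2_P2 S), r_O2_Z2 S, t (r_O2_Z2 S), r_P3_O2 S, t (r_P3_O2 S), r_Z3_O2 S, t (r_Z3_O2 S), r_O3_P3 S, t (r_O3_P3 S), r_O3_Z3 S, t (r_O3_Z3 S), r_P4_O3 S, t (r_P4_O3 S), r_Z4_O3 S, t (r_Z4_O3 S), r_O1_O0 S, t (r_O1_O0 S), r_Z2_P1 S, t (r_Z2_P1 S), r_P2_Z1 S, t (r_P2_Z1 S), r_Z2_Z1 S, t (r_Z2_Z1 S), r_O2_O1 S, t (r_O2_O1 S), r_Z3_P2 S, t (r_Z3_P2 S), r_P3_Z2 S, t (r_P3_Z2 S), r_Z3_Z2 S, t (r_Z3_Z2 S), r_O3_O2 S, t (r_O3_O2 S), r_Z4_P3 S, t (r_Z4_P3 S), r_P4_Z3 S, t (r_P4_Z3 S), r_Z4_Z3 S, t (r_Z4_Z3 S), r_Z2_O0 S, t (r_Z2_O0 S), r_O2_Z1 S, t (r_O2_Z1 S), r_Z3_O1 S, t (r_Z3_O1 S), r_O3_Z2 S, t (r_O3_Z2 S), r_Z4_O2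 S, t (r_Z4_O2 S), r_O2_O0 S, t (r_O2_O0 S), r_P3_P1 S, t (r_P3_P1 S), r_Z3_P1 S, t (r_Z3_P1 S), r_P3_Z1 S, t (r_P3_Z1 S), r_Z3_Z1 S, t (r_Z3_Z1 S), r_O3_O1 S, t (r_O3_O1 S), r_P4_P2 S, t (r_P4_P2 S), r_Z4_P2 S, t (r_Z4_P2 S), r_P4_Z2 S, t (r_P4_Z2 S), r_Z4_Z2 S, t (r_Z4_Z2 S), r_P2_P1 S, t (r_P2_P1 S), r_P3_P2 S, t (r_P3_P2 S), r_P4_P3 S, t (r_P4_P3 S), r_P2_O0 S, t (r_P2_O0 S), r_O2_P1 S, t (r_O2_P1 S), r_P3_O1 S, t (r_P3_O1 S), r_O3_P2 S, t (r_O3_P2 S), r_P4_O2 S, t (r_P4_O2 S), r_P3_O0 S, t (r_P3_O0 S), r_Z3_O0 S, t (r_Z3_O0 S)]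

theorem r_O3_Z1 : S.o 3 1 * S.e 1 0 1 = S.e 1 0 1 * (S.o 3 1 * (S.e 2 0 1)) := by
  refine rel_of (c := S.e 2 0 1) ?_ ?_
  · simpa [S.o_zero, S.e_zero, s_1, s_2, s_3, s_4, n11, n12, n13, n21, n22, n31, mul_assoc] using S.e_o2 1 0 1 1
  · simp only [mul_assoc, mul_one, one_mul, r_O0 S, t (r_O0 S), r_O1 S, t (r_O1 S), r_O2 S, t (r_O2 S), r_O3 S, t (r_O3 S), r_P1 S, t (r_P1 S), r_P2 S, t (r_P2 S), r_P3 S, t (r_P3 S), r_P4 S, t (r_P4 S), r_Z1 S, t (r_Z1 S), r_Z2 S, t (r_Z2 S), r_Z3 S, t (r_Z3 S), r_Z4 S, t (r_Z4 S), r_ZP1 S, t (r_ZP1 S), r_ZP2 S, t (r_ZP2 S), r_ZP3 S, t (r_ZP3 S), r_ZP4 S, t (r_ZP4 S), r_P1_O0 S, t (r_P1_O0 S), r_Z1_O0 S, t (r_Z1_O0 S), r_O1_P1 S, t (r_O1_P1 S), r_O1_Z1 S, t (r_O1_Z1 S), r_P2_O1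 S, t (r_P2_O1 S), r_Z2_O1 S, t (r_Z2_O1 S), r_O2_P2 S, t (r_O2_P2 S), r_O2_Z2 S, t (r_O2_Z2 S), r_P3_O2 S, t (r_P3_O2 S), r_Z3_O2 S, t (r_Z3_O2 S), r_O3_P3 S, t (r_O3_P3 S), r_O3_Z3 S, t (r_O3_Z3 S), r_P4_O3 S, t (r_P4_O3 S), r_Z4_O3 S, t (r_Z4_O3 S), r_O1_O0 S, t (r_O1_O0 S), r_Z2_P1 S, t (r_Z2_P1 S), r_P2_Z1 S, t (r_P2_Z1 S), r_Z2_Z1 S, t (r_Z2_Z1 S), r_O2_O1 S, t (r_O2_O1 S), r_Z3_P2 S, t (r_Z3_P2 S), r_P3_Z2 S, t (r_P3_Z2 S), r_Z3_Z2 S, t (r_Z3_Z2 S), r_O3_O2 S, t (r_O3_O2 S), r_Z4_P3 S, t (r_Z4_P3 S), r_P4_Z3 S, t (r_P4_Z3 S), r_Z4_Z3 S, t (r_Z4_Z3 S), r_Z2_O0 S, t (r_Z2_O0 S), r_O2_Z1 S, t (r_O2_Z1 S), r_Z3_O1 S, t (r_Z3_O1 S), r_O3_Z2 S, t (r_O3_Z2 S), r_Z4_O2 S, t (r_Z4_O2 S), r_O2_O0 S, t (r_O2_O0 S),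 r_P3_P1 S, t (r_P3_P1 S), r_Z3_P1 S, t (r_Z3_P1 S), r_P3_Z1 S, t (r_P3_Z1 S), r_Z3_Z1 S, t (r_Z3_Z1 S), r_O3_O1 S, t (r_O3_O1 S), r_P4_P2 S, t (r_P4_P2 S), r_Z4_P2 S, t (r_Z4_P2 S), r_P4_Z2 S, t (r_P4_Z2 S), r_Z4_Z2 S, t (r_Z4_Z2 S), r_P2_P1 S, t (r_P2_P1 S), r_P3_P2 S, t (r_P3_P2 S), r_P4_P3 S, t (r_P4_P3 S), r_P2_O0 S, t (r_P2_O0 S), r_O2_P1 S, t (r_O2_P1 S), r_P3_O1 S, t (r_P3_O1 S), r_O3_P2 S, t (r_O3_P2 S), r_P4_O2 S, t (r_P4_O2 S), r_P3_O0 S, t (r_P3_O0 S), r_Z3_O0 S, t (r_Z3_O0 S), r_O3_P1 S, t (r_O3_P1 S)]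

theorem r_P4_O1 : S.e 4 1 0 * S.o 1 1 = S.o 1 1 * (S.e 4 1 0 * (S.e 2 0 1 * (S.o 2 1 * S.e 3 0 1))) := by
  refine rel_of (c := S.e 2 0 1 * (S.o 2 1 * S.e 3 0 1)) ?_ ?_
  · simpa [S.o_zero, S.e_zero, s_1, s_2, s_3, s_4, n11, n12, n13, n21, n22, n31, mul_assoc] using S.o_e3 1 1 1 0
  · simp only [mul_assoc, mul_one, one_mul, r_O0 S, t (r_O0 S), r_O1 S, t (r_O1 S), r_O2 S, t (r_O2 S), r_O3 S, t (r_O3 S), r_P1 S, t (r_P1 S), r_P2 S, t (r_P2 S), r_P3 S, t (r_P3 S), r_P4 S, t (r_P4 S), r_Z1 S, t (r_Z1 S), r_Z2 S, t (r_Z2 S), r_Z3 S, t (r_Z3 S), r_Z4 S, t (r_Z4 S), r_ZP1 S, t (r_ZP1 S), r_ZP2 S, t (r_ZP2 S), r_ZP3 S, t (r_ZP3 S), r_ZP4 S, t (r_ZP4 S), r_P1_O0 S, t (r_P1_O0 S), r_Z1_O0 S, t (r_Z1_O0 S), r_O1_P1 S,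 t (r_O1_P1 S), r_O1_Z1 S, t (r_O1_Z1 S), r_P2_O1 S, t (r_P2_O1 S), r_Z2_O1 S, t (r_Z2_O1 S), r_O2_P2 S, t (r_O2_P2 S), r_O2_Z2 S, t (r_O2_Z2 S), r_P3_O2 S, t (r_P3_O2 S), r_Z3_O2 S, t (r_Z3_O2 S), r_O3_P3 S, t (r_O3_P3 S), r_O3_Z3 S, t (r_O3_Z3 S), r_P4_O3 S, t (r_P4_O3 S), r_Z4_O3 S, t (r_Z4_O3 S), r_O1_O0 S, t (r_O1_O0 S), r_Z2_P1 S, t (r_Z2_P1 S), r_P2_Z1 S, t (r_P2_Z1 S), r_Z2_Z1 S, t (r_Z2_Z1 S), r_O2_O1 S, t (r_O2_O1 S), r_Z3_P2 S, t (r_Z3_P2 S), r_P3_Z2 S, t (r_P3_Z2 S), r_Z3_Z2 S, t (r_Z3_Z2 S), r_O3_O2 S, t (r_O3_O2 S), r_Z4_P3 S, t (r_Z4_P3 S), r_P4_Z3 S, t (r_P4_Z3 S), r_Z4_Z3 S, t (r_Z4_Z3 S), r_Z2_O0 S, t (r_Z2_O0 S), r_O2_Z1 S, t (r_O2_Z1 S), r_Z3_O1 S, t (r_Z3_O1 S), r_O3_Z2 S, t (r_O3_Z2 S), r_Z4_O2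 S, t (r_Z4_O2 S), r_O2_O0 S, t (r_O2_O0 S), r_P3_P1 S, t (r_P3_P1 S), r_Z3_P1 S, t (r_Z3_P1 S), r_P3_Z1 S, t (r_P3_Z1 S), r_Z3_Z1 S, t (r_Z3_Z1 S), r_O3_O1 S, t (r_O3_O1 S), r_P4_P2 S, t (r_P4_P2 S), r_Z4_P2 S, t (r_Z4_P2 S), r_P4_Z2 S, t (r_P4_Z2 S), r_Z4_Z2 S, t (r_Z4_Z2 S), r_P2_P1 S, t (r_P2_P1 S), r_P3_P2 S, t (r_P3_P2 S), r_P4_P3 S, t (r_P4_P3 S), r_P2_O0 S, t (r_P2_O0 S), r_O2_P1 S, t (r_O2_P1 S), r_P3_O1 S, t (r_P3_O1 S), r_O3_P2 S, t (r_O3_P2 S), r_P4_O2 S, t (r_P4_O2 S), r_P3_O0 S, t (r_P3_O0 S), r_Z3_O0 S, t (r_Z3_O0 S), r_O3_P1 S, t (r_O3_P1 S), r_O3_Z1 S, t (r_O3_Z1 S)]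

theorem r_Z4_O1 : S.e 4 0 1 * S.o 1 1 = S.o 1 1 * (S.e 4 0 1 * (S.e 3 0 1)) := by
  refine rel_of (c := S.e 3 0 1) ?_ ?_
  · simpa [S.o_zero, S.e_zero, s_1, s_2, s_3, s_4, n11, n12, n13, n21, n22, n31, mul_assoc] using S.o_e3 1 1 0 1
  · simp only [mul_assoc, mul_one, one_mul, r_O0 S, t (r_O0 S), r_O1 S, t (r_O1 S), r_O2 S, t (r_O2 S), r_O3 S, t (r_O3 S), r_P1 S, t (r_P1 S), r_P2 S, t (r_P2 S), r_P3 S, t (r_P3 S), r_P4 S, t (r_P4 S), r_Z1 S, t (r_Z1 S), r_Z2 S, t (r_Z2 S), r_Z3 S, t (r_Z3 S), r_Z4 S, t (r_Z4 S), r_ZP1 S, t (r_ZP1 S), r_ZP2 S, t (r_ZP2 S), r_ZP3 S, t (r_ZP3 S), r_ZP4 S, t (r_ZP4 S), r_P1_O0 S, t (r_P1_O0 S), r_Z1_O0 S, t (r_Z1_O0 S), r_O1_P1 S, t (r_O1_P1 S), r_O1_Z1 S, t (r_O1_Z1 S), r_P2_O1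 S, t (r_P2_O1 S), r_Z2_O1 S, t (r_Z2_O1 S), r_O2_P2 S, t (r_O2_P2 S), r_O2_Z2 S, t (r_O2_Z2 S), r_P3_O2 S, t (r_P3_O2 S), r_Z3_O2 S, t (r_Z3_O2 S), r_O3_P3 S, t (r_O3_P3 S), r_O3_Z3 S, t (r_O3_Z3 S), r_P4_O3 S, t (r_P4_O3 S), r_Z4_O3 S, t (r_Z4_O3 S), r_O1_O0 S, t (r_O1_O0 S), r_Z2_P1 S, t (r_Z2_P1 S), r_P2_Z1 S, t (r_P2_Z1 S), r_Z2_Z1 S, t (r_Z2_Z1 S), r_O2_O1 S, t (r_O2_O1 S), r_Z3_P2 S, t (r_Z3_P2 S), r_P3_Z2 S, t (r_P3_Z2 S), r_Z3_Z2 S, t (r_Z3_Z2 S), r_O3_O2 S, t (r_O3_O2 S), r_Z4_P3 S, t (r_Z4_P3 S), r_P4_Z3 S, t (r_P4_Z3 S), r_Z4_Z3 S, t (r_Z4_Z3 S), r_Z2_O0 S, t (r_Z2_O0 S), r_O2_Z1 S, t (r_O2_Z1 S), r_Z3_O1 S, t (r_Z3_O1 S), r_O3_Z2 S, t (r_O3_Z2 S), r_Z4_O2 S, t (r_Z4_O2 S), r_O2_O0 S, t (r_O2_O0 S),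 r_P3_P1 S, t (r_P3_P1 S), r_Z3_P1 S, t (r_Z3_P1 S), r_P3_Z1 S, t (r_P3_Z1 S), r_Z3_Z1 S, t (r_Z3_Z1 S), r_O3_O1 S, t (r_O3_O1 S), r_P4_P2 S, t (r_P4_P2 S), r_Z4_P2 S, t (r_Z4_P2 S), r_P4_Z2 S, t (r_P4_Z2 S), r_Z4_Z2 S, t (r_Z4_Z2 S), r_P2_P1 S, t (r_P2_P1 S), r_P3_P2 S, t (r_P3_P2 S), r_P4_P3 S, t (r_P4_P3 S), r_P2_O0 S, t (r_P2_O0 S), r_O2_P1 S, t (r_O2_P1 S), r_P3_O1 S, t (r_P3_O1 S), r_O3_P2 S, t (r_O3_P2 S), r_P4_O2 S, t (r_P4_O2 S), r_P3_O0 S, t (r_P3_O0 S), r_Z3_O0 S, t (r_Z3_O0 S), r_O3_P1 S, t (r_O3_P1 S), r_O3_Z1 S, t (r_O3_Z1 S), r_P4_O1 S, t (r_P4_O1 S)]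

theorem r_O3_O0 : S.o 3 1 * S.o 0 1 = S.o 0 1 * (S.o 3 1 * (S.o 1 1 * S.o 2 1)) := by
  refine rel_of (c := S.o 1 1 * S.o 2 1) ?_ ?_
  · simpa [S.o_zero, S.e_zero, s_1, s_2, s_3, s_4, n11, n12, n13, n21, n22, n31, mul_assoc] using S.o_o3 0 1 1
  · simp only [mul_assoc, mul_one, one_mul, r_O0 S, t (r_O0 S), r_O1 S, t (r_O1 S), r_O2 S, t (r_O2 S), r_O3 S, t (r_O3 S), r_P1 S, t (r_P1 S), r_P2 S, t (r_P2 S), r_P3 S, t (r_P3 S), r_P4 S, t (r_P4 S), r_Z1 S, t (r_Z1 S), r_Z2 S, t (r_Z2 S), r_Z3 S, t (r_Z3 S), r_Z4 S, t (r_Z4 S), r_ZP1 S, t (r_ZP1 S), r_ZP2 S, t (r_ZP2 S), r_ZP3 S, t (r_ZP3 S), r_ZP4 S, t (r_ZP4 S), r_P1_O0 S, t (r_P1_O0 S), r_Z1_O0 S, t (r_Z1_O0 S), r_O1_P1 S, t (r_O1_P1 S), r_O1_Z1 S, t (r_O1_Z1 S),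 r_P2_O1 S, t (r_P2_O1 S), r_Z2_O1 S, t (r_Z2_O1 S), r_O2_P2 S, t (r_O2_P2 S), r_O2_Z2 S, t (r_O2_Z2 S), r_P3_O2 S, t (r_P3_O2 S), r_Z3_O2 S, t (r_Z3_O2 S), r_O3_P3 S, t (r_O3_P3 S), r_O3_Z3 S, t (r_O3_Z3 S), r_P4_O3 S, t (r_P4_O3 S), r_Z4_O3 S, t (r_Z4_O3 S), r_O1_O0 S, t (r_O1_O0 S), r_Z2_P1 S, t (r_Z2_P1 S), r_P2_Z1 S, t (r_P2_Z1 S), r_Z2_Z1 S, t (r_Z2_Z1 S), r_O2_O1 S, t (r_O2_O1 S), r_Z3_P2 S, t (r_Z3_P2 S), r_P3_Z2 S, t (r_P3_Z2 S), r_Z3_Z2 S, t (r_Z3_Z2 S), r_O3_O2 S, t (r_O3_O2 S), r_Z4_P3 S, t (r_Z4_P3 S), r_P4_Z3 S, t (r_P4_Z3 S), r_Z4_Z3 S, t (r_Z4_Z3 S), r_Z2_O0 S, t (r_Z2_O0 S), r_O2_Z1 S, t (r_O2_Z1 S), r_Z3_O1 S, t (r_Z3_O1 S), r_O3_Z2 S, t (r_O3_Z2 S), r_Z4_O2 S, t (r_Z4_O2 S), r_O2_O0 S, t (r_O2_O0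 S), r_P3_P1 S, t (r_P3_P1 S), r_Z3_P1 S, t (r_Z3_P1 S), r_P3_Z1 S, t (r_P3_Z1 S), r_Z3_Z1 S, t (r_Z3_Z1 S), r_O3_O1 S, t (r_O3_O1 S), r_P4_P2 S, t (r_P4_P2 S), r_Z4_P2 S, t (r_Z4_P2 S), r_P4_Z2 S, t (r_P4_Z2 S), r_Z4_Z2 S, t (r_Z4_Z2 S), r_P2_P1 S, t (r_P2_P1 S), r_P3_P2 S, t (r_P3_P2 S), r_P4_P3 S, t (r_P4_P3 S), r_P2_O0 S, t (r_P2_O0 S), r_O2_P1 S, t (r_O2_P1 S), r_P3_O1 S, t (r_P3_O1 S), r_O3_P2 S, t (r_O3_P2 S), r_P4_O2 S, t (r_P4_O2 S), r_P3_O0 S, t (r_P3_O0 S), r_Z3_O0 S, t (r_Z3_O0 S), r_O3_P1 S, t (r_O3_P1 S), r_O3_Z1 S, t (r_O3_Z1 S), r_P4_O1 S, t (r_P4_O1 S), r_Z4_O1 S, t (r_Z4_O1 S)]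

theorem r_P4_P1 : S.e 4 1 0 * S.e 1 1 0 = S.e 1 1 0 * (S.e 4 1 0 * (S.o 1 1 * (S.e 2 1 0 * (S.o 2 1 * (S.e 3 1 0 * (S.e 3 0 1 * S.o 3 1)))))) := by
  refine rel_of (c := S.o 1 1 * (S.e 2 1 0 * (S.e 3 1 0 * (S.e 3 0 1 * S.o 3 1)))) ?_ ?_
  · simpa [S.o_zero, S.e_zero, s_1, s_2, s_3, s_4, n11, n12, n13, n21, n22, n31, mul_assoc] using S.e_e3 1 1 0 1 0
  · simp only [mul_assoc, mul_one, one_mul, r_O0 S, t (r_O0 S), r_O1 S, t (r_O1 S), r_O2 S, t (r_O2 S), r_O3 S, t (r_O3 S), r_P1 S, t (r_P1 S), r_P2 S, t (r_P2 S), r_P3 S, t (r_P3 S), r_P4 S, t (r_P4 S), r_Z1 S, t (r_Z1 S), r_Z2 S, t (r_Z2 S), r_Z3 S, t (r_Z3 S), r_Z4 S, t (r_Z4 S), r_ZP1 S, t (r_ZP1 S), r_ZP2 S, t (r_ZP2 S), r_ZP3 S, t (r_ZP3 S), r_ZP4 S, t (r_ZP4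 S), r_P1_O0 S, t (r_P1_O0 S), r_Z1_O0 S, t (r_Z1_O0 S), r_O1_P1 S, t (r_O1_P1 S), r_O1_Z1 S, t (r_O1_Z1 S), r_P2_O1 S, t (r_P2_O1 S), r_Z2_O1 S, t (r_Z2_O1 S), r_O2_P2 S, t (r_O2_P2 S), r_O2_Z2 S, t (r_O2_Z2 S), r_P3_O2 S, t (r_P3_O2 S), r_Z3_O2 S, t (r_Z3_O2 S), r_O3_P3 S, t (r_O3_P3 S), r_O3_Z3 S, t (r_O3_Z3 S), r_P4_O3 S, t (r_P4_O3 S), r_Z4_O3 S, t (r_Z4_O3 S), r_O1_O0 S, t (r_O1_O0 S), r_Z2_P1 S, t (r_Z2_P1 S), r_P2_Z1 S, t (r_P2_Z1 S), r_Z2_Z1 S, t (r_Z2_Z1 S), r_O2_O1 S, t (r_O2_O1 S), r_Z3_P2 S, t (r_Z3_P2 S), r_P3_Z2 S, t (r_P3_Z2 S), r_Z3_Z2 S, t (r_Z3_Z2 S), r_O3_O2 S, t (r_O3_O2 S), r_Z4_P3 S, t (r_Z4_P3 S), r_P4_Z3 S, t (r_P4_Z3 S), r_Z4_Z3 S, t (r_Z4_Z3 S), r_Z2_O0 S, t (r_Z2_O0 S), r_O2_Z1 S, t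 (r_O2_Z1 S), r_Z3_O1 S, t (r_Z3_O1 S), r_O3_Z2 S, t (r_O3_Z2 S), r_Z4_O2 S, t (r_Z4_O2 S), r_O2_O0 S, t (r_O2_O0 S), r_P3_P1 S, t (r_P3_P1 S), r_Z3_P1 S, t (r_Z3_P1 S), r_P3_Z1 S, t (r_P3_Z1 S), r_Z3_Z1 S, t (r_Z3_Z1 S), r_O3_O1 S, t (r_O3_O1 S), r_P4_P2 S, t (r_P4_P2 S), r_Z4_P2 S, t (r_Z4_P2 S), r_P4_Z2 S, t (r_P4_Z2 S), r_Z4_Z2 S, t (r_Z4_Z2 S), r_P2_P1 S, t (r_P2_P1 S), r_P3_P2 S, t (r_P3_P2 S), r_P4_P3 S, t (r_P4_P3 S), r_P2_O0 S, t (r_P2_O0 S), r_O2_P1 S, t (r_O2_P1 S), r_P3_O1 S, t (r_P3_O1 S), r_O3_P2 S, t (r_O3_P2 S), r_P4_O2 S, t (r_P4_O2 S), r_P3_O0 S, t (r_P3_O0 S), r_Z3_O0 S, t (r_Z3_O0 S), r_O3_P1 S, t (r_O3_P1 S), r_O3_Z1 S, t (r_O3_Z1 S), r_P4_O1 S, t (r_P4_O1 S), r_Z4_O1 S, t (r_Z4_O1 S), r_O3_O0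 S, t (r_O3_O0 S)]

theorem r_Z4_P1 : S.e 4 0 1 * S.e 1 1 0 = S.e 1 1 0 * (S.e 4 0 1 * (S.e 2 0 1 * (S.e 3 0 1 * S.o 3 1))) := by
  refine rel_of (c := S.e 2 0 1 * (S.e 3 0 1 * S.o 3 1)) ?_ ?_
  · simpa [S.o_zero, S.e_zero, s_1, s_2, s_3, s_4, n11, n12, n13, n21, n22, n31, mul_assoc] using S.e_e3 1 1 0 0 1
  · simp only [mul_assoc, mul_one, one_mul, r_O0 S, t (r_O0 S), r_O1 S, t (r_O1 S), r_O2 S, t (r_O2 S), r_O3 S, t (r_O3 S), r_P1 S, t (r_P1 S), r_P2 S, t (r_P2 S), r_P3 S, t (r_P3 S), r_P4 S, t (r_P4 S), r_Z1 S, t (r_Z1 S), r_Z2 S, t (r_Z2 S), r_Z3 S, t (r_Z3 S), r_Z4 S, t (r_Z4 S), r_ZP1 S, t (r_ZP1 S), r_ZP2 S, t (r_ZP2 S), r_ZP3 S, t (r_ZP3 S), r_ZP4 S, t (r_ZP4 S), r_P1_O0 S, t (r_P1_O0 S), r_Z1_O0 S, t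 (r_Z1_O0 S), r_O1_P1 S, t (r_O1_P1 S), r_O1_Z1 S, t (r_O1_Z1 S), r_P2_O1 S, t (r_P2_O1 S), r_Z2_O1 S, t (r_Z2_O1 S), r_O2_P2 S, t (r_O2_P2 S), r_O2_Z2 S, t (r_O2_Z2 S), r_P3_O2 S, t (r_P3_O2 S), r_Z3_O2 S, t (r_Z3_O2 S), r_O3_P3 S, t (r_O3_P3 S), r_O3_Z3 S, t (r_O3_Z3 S), r_P4_O3 S, t (r_P4_O3 S), r_Z4_O3 S, t (r_Z4_O3 S), r_O1_O0 S, t (r_O1_O0 S), r_Z2_P1 S, t (r_Z2_P1 S), r_P2_Z1 S, t (r_P2_Z1 S), r_Z2_Z1 S, t (r_Z2_Z1 S), r_O2_O1 S, t (r_O2_O1 S), r_Z3_P2 S, t (r_Z3_P2 S), r_P3_Z2 S, t (r_P3_Z2 S), r_Z3_Z2 S, t (r_Z3_Z2 S), r_O3_O2 S, t (r_O3_O2 S), r_Z4_P3 S, t (r_Z4_P3 S), r_P4_Z3 S, t (r_P4_Z3 S), r_Z4_Z3 S, t (r_Z4_Z3 S), r_Z2_O0 S, t (r_Z2_O0 S), r_O2_Z1 S, t (r_O2_Z1 S), r_Z3_O1 S, t (r_Z3_O1 S), r_O3_Z2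 S, t (r_O3_Z2 S), r_Z4_O2 S, t (r_Z4_O2 S), r_O2_O0 S, t (r_O2_O0 S), r_P3_P1 S, t (r_P3_P1 S), r_Z3_P1 S, t (r_Z3_P1 S), r_P3_Z1 S, t (r_P3_Z1 S), r_Z3_Z1 S, t (r_Z3_Z1 S), r_O3_O1 S, t (r_O3_O1 S), r_P4_P2 S, t (r_P4_P2 S), r_Z4_P2 S, t (r_Z4_P2 S), r_P4_Z2 S, t (r_P4_Z2 S), r_Z4_Z2 S, t (r_Z4_Z2 S), r_P2_P1 S, t (r_P2_P1 S), r_P3_P2 S, t (r_P3_P2 S), r_P4_P3 S, t (r_P4_P3 S), r_P2_O0 S, t (r_P2_O0 S), r_O2_P1 S, t (r_O2_P1 S), r_P3_O1 S, t (r_P3_O1 S), r_O3_P2 S, t (r_O3_P2 S), r_P4_O2 S, t (r_P4_O2 S), r_P3_O0 S, t (r_P3_O0 S), r_Z3_O0 S, t (r_Z3_O0 S), r_O3_P1 S, t (r_O3_P1 S), r_O3_Z1 S, t (r_O3_Z1 S), r_P4_O1 S, t (r_P4_O1 S), r_Z4_O1 S, t (r_Z4_O1 S), r_O3_O0 S, t (r_O3_O0 S), r_P4_P1 S, t (r_P4_P1 S)]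

theorem r_P4_Z1 : S.e 4 1 0 * S.e 1 0 1 = S.e 1 0 1 * (S.e 4 1 0 * (S.o 1 1 * (S.e 2 0 1 * S.e 3 0 1))) := by
  refine rel_of (c := S.o 1 1 * (S.e 2 0 1 * S.e 3 0 1)) ?_ ?_
  · simpa [S.o_zero, S.e_zero, s_1, s_2, s_3, s_4, n11, n12, n13, n21, n22, n31, mul_assoc] using S.e_e3 1 0 1 1 0
  · simp only [mul_assoc, mul_one, one_mul, r_O0 S, t (r_O0 S), r_O1 S, t (r_O1 S), r_O2 S, t (r_O2 S), r_O3 S, t (r_O3 S), r_P1 S, t (r_P1 S), r_P2 S, t (r_P2 S), r_P3 S, t (r_P3 S), r_P4 S, t (r_P4 S), r_Z1 S, t (r_Z1 S), r_Z2 S, t (r_Z2 S), r_Z3 S, t (r_Z3 S), r_Z4 S, t (r_Z4 S), r_ZP1 S, t (r_ZP1 S), r_ZP2 S, t (r_ZP2 S), r_ZP3 S, t (r_ZP3 S), r_ZP4 S, t (r_ZP4 S), r_P1_O0 S, t (r_P1_O0 S), r_Z1_O0 S, t (r_Z1_O0 S), r_O1_P1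 S, t (r_O1_P1 S), r_O1_Z1 S, t (r_O1_Z1 S), r_P2_O1 S, t (r_P2_O1 S), r_Z2_O1 S, t (r_Z2_O1 S), r_O2_P2 S, t (r_O2_P2 S), r_O2_Z2 S, t (r_O2_Z2 S), r_P3_O2 S, t (r_P3_O2 S), r_Z3_O2 S, t (r_Z3_O2 S), r_O3_P3 S, t (r_O3_P3 S), r_O3_Z3 S, t (r_O3_Z3 S), r_P4_O3 S, t (r_P4_O3 S), r_Z4_O3 S, t (r_Z4_O3 S), r_O1_O0 S, t (r_O1_O0 S), r_Z2_P1 S, t (r_Z2_P1 S), r_P2_Z1 S, t (r_P2_Z1 S), r_Z2_Z1 S, t (r_Z2_Z1 S), r_O2_O1 S, t (r_O2_O1 S), r_Z3_P2 S, t (r_Z3_P2 S), r_P3_Z2 S, t (r_P3_Z2 S), r_Z3_Z2 S, t (r_Z3_Z2 S), r_O3_O2 S, t (r_O3_O2 S), r_Z4_P3 S, t (r_Z4_P3 S), r_P4_Z3 S, t (r_P4_Z3 S), r_Z4_Z3 S, t (r_Z4_Z3 S), r_Z2_O0 S, t (r_Z2_O0 S), r_O2_Z1 S, t (r_O2_Z1 S), r_Z3_O1 S, t (r_Z3_O1 S), r_O3_Z2 S, t (r_O3_Z2 S),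 r_Z4_O2 S, t (r_Z4_O2 S), r_O2_O0 S, t (r_O2_O0 S), r_P3_P1 S, t (r_P3_P1 S), r_Z3_P1 S, t (r_Z3_P1 S), r_P3_Z1 S, t (r_P3_Z1 S), r_Z3_Z1 S, t (r_Z3_Z1 S), r_O3_O1 S, t (r_O3_O1 S), r_P4_P2 S, t (r_P4_P2 S), r_Z4_P2 S, t (r_Z4_P2 S), r_P4_Z2 S, t (r_P4_Z2 S), r_Z4_Z2 S, t (r_Z4_Z2 S), r_P2_P1 S, t (r_P2_P1 S), r_P3_P2 S, t (r_P3_P2 S), r_P4_P3 S, t (r_P4_P3 S), r_P2_O0 S, t (r_P2_O0 S), r_O2_P1 S, t (r_O2_P1 S), r_P3_O1 S, t (r_P3_O1 S), r_O3_P2 S, t (r_O3_P2 S), r_P4_O2 S, t (r_P4_O2 S), r_P3_O0 S, t (r_P3_O0 S), r_Z3_O0 S, t (r_Z3_O0 S), r_O3_P1 S, t (r_O3_P1 S), r_O3_Z1 S, t (r_O3_Z1 S), r_P4_O1 S, t (r_P4_O1 S), r_Z4_O1 S, t (r_Z4_O1 S), r_O3_O0 S, t (r_O3_O0 S), r_P4_P1 S, t (r_P4_P1 S), r_Z4_P1 S, t (r_Z4_P1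 S)]

theorem r_Z4_Z1 : S.e 4 0 1 * S.e 1 0 1 = S.e 1 0 1 * (S.e 4 0 1 * (S.e 2 0 1 * (S.o 2 1 * S.e 3 0 1))) := by
  refine rel_of (c := S.e 2 0 1 * (S.o 2 1 * S.e 3 0 1)) ?_ ?_
  · simpa [S.o_zero, S.e_zero, s_1, s_2, s_3, s_4, n11, n12, n13, n21, n22, n31, mul_assoc] using S.e_e3 1 0 1 0 1
  · simp only [mul_assoc, mul_one, one_mul, r_O0 S, t (r_O0 S), r_O1 S, t (r_O1 S), r_O2 S, t (r_O2 S), r_O3 S, t (r_O3 S), r_P1 S, t (r_P1 S), r_P2 S, t (r_P2 S), r_P3 S, t (r_P3 S), r_P4 S, t (r_P4 S), r_Z1 S, t (r_Z1 S), r_Z2 S, t (r_Z2 S), r_Z3 S, t (r_Z3 S), r_Z4 S, t (r_Z4 S), r_ZP1 S, t (r_ZP1 S), r_ZP2 S, t (r_ZP2 S), r_ZP3 S, t (r_ZP3 S), r_ZP4 S, t (r_ZP4 S), r_P1_O0 S, t (r_P1_O0 S), r_Z1_O0 S, t (r_Z1_O0 S), r_O1_P1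 S, t (r_O1_P1 S), r_O1_Z1 S, t (r_O1_Z1 S), r_P2_O1 S, t (r_P2_O1 S), r_Z2_O1 S, t (r_Z2_O1 S), r_O2_P2 S, t (r_O2_P2 S), r_O2_Z2 S, t (r_O2_Z2 S), r_P3_O2 S, t (r_P3_O2 S), r_Z3_O2 S, t (r_Z3_O2 S), r_O3_P3 S, t (r_O3_P3 S), r_O3_Z3 S, t (r_O3_Z3 S), r_P4_O3 S, t (r_P4_O3 S), r_Z4_O3 S, t (r_Z4_O3 S), r_O1_O0 S, t (r_O1_O0 S), r_Z2_P1 S, t (r_Z2_P1 S), r_P2_Z1 S, t (r_P2_Z1 S), r_Z2_Z1 S, t (r_Z2_Z1 S), r_O2_O1 S, t (r_O2_O1 S), r_Z3_P2 S, t (r_Z3_P2 S), r_P3_Z2 S, t (r_P3_Z2 S), r_Z3_Z2 S, t (r_Z3_Z2 S), r_O3_O2 S, t (r_O3_O2 S), r_Z4_P3 S, t (r_Z4_P3 S), r_P4_Z3 S, t (r_P4_Z3 S), r_Z4_Z3 S, t (r_Z4_Z3 S), r_Z2_O0 S, t (r_Z2_O0 S), r_O2_Z1 S, t (r_O2_Z1 S), r_Z3_O1 S, t (r_Z3_O1 S), r_O3_Z2 S, t (r_O3_Z2 S),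 r_Z4_O2 S, t (r_Z4_O2 S), r_O2_O0 S, t (r_O2_O0 S), r_P3_P1 S, t (r_P3_P1 S), r_Z3_P1 S, t (r_Z3_P1 S), r_P3_Z1 S, t (r_P3_Z1 S), r_Z3_Z1 S, t (r_Z3_Z1 S), r_O3_O1 S, t (r_O3_O1 S), r_P4_P2 S, t (r_P4_P2 S), r_Z4_P2 S, t (r_Z4_P2 S), r_P4_Z2 S, t (r_P4_Z2 S), r_Z4_Z2 S, t (r_Z4_Z2 S), r_P2_P1 S, t (r_P2_P1 S), r_P3_P2 S, t (r_P3_P2 S), r_P4_P3 S, t (r_P4_P3 S), r_P2_O0 S, t (r_P2_O0 S), r_O2_P1 S, t (r_O2_P1 S), r_P3_O1 S, t (r_P3_O1 S), r_O3_P2 S, t (r_O3_P2 S), r_P4_O2 S, t (r_P4_O2 S), r_P3_O0 S, t (r_P3_O0 S), r_Z3_O0 S, t (r_Z3_O0 S), r_O3_P1 S, t (r_O3_P1 S), r_O3_Z1 S, t (r_O3_Z1 S), r_P4_O1 S, t (r_P4_O1 S), r_Z4_O1 S, t (r_Z4_O1 S), r_O3_O0 S, t (r_O3_O0 S), r_P4_P1 S, t (r_P4_P1 S), r_Z4_P1 S, t (r_Z4_P1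 S), r_P4_Z1 S, t (r_P4_Z1 S)]

theorem r_P4_O0 : S.e 4 1 0 * S.o 0 1 = S.o 0 1 * (S.e 4 1 0 * (S.e 1 1 0 * (S.e 2 1 0 * (S.e 2 0 1 * (S.e 3 0 1 * S.o 3 1))))) := by
  refine rel_of (c := S.e 1 1 0 * (S.e 1 0 1 * (S.o 1 1 * (S.e 2 1 0 * (S.o 2 1 * (S.e 3 0 1 * S.o 3 1)))))) ?_ ?_
  · simpa [S.o_zero, S.e_zero, s_1, s_2, s_3, s_4, n11, n12, n13, n21, n22, n31, mul_assoc] using S.o_e4 0 1 1 0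
  · simp only [mul_assoc, mul_one, one_mul, r_O0 S, t (r_O0 S), r_O1 S, t (r_O1 S), r_O2 S, t (r_O2 S), r_O3 S, t (r_O3 S), r_P1 S, t (r_P1 S), r_P2 S, t (r_P2 S), r_P3 S, t (r_P3 S), r_P4 S, t (r_P4 S), r_Z1 S, t (r_Z1 S), r_Z2 S, t (r_Z2 S), r_Z3 S, t (r_Z3 S), r_Z4 S, t (r_Z4 S), r_ZP1 S, t (r_ZP1 S), r_ZP2 S, t (r_ZP2 S), r_ZP3 S, t (r_ZP3 S), r_ZP4 S, t (r_ZP4 S), r_P1_O0 S, t (r_P1_O0 S), r_Z1_O0 S, t (r_Z1_O0 S), r_O1_P1 S, t (r_O1_P1 S), r_O1_Z1 S, t (r_O1_Z1 S), r_P2_O1 S, t (r_P2_O1 S), r_Z2_O1 S, t (r_Z2_O1 S), r_O2_P2 S, t (r_O2_P2 S), r_O2_Z2 S, t (r_O2_Z2 S), r_P3_O2 S, t (r_P3_O2 S), r_Z3_O2 S, t (r_Z3_O2 S), r_O3_P3 S, t (r_O3_P3 S), r_O3_Z3 S, t (r_O3_Z3 S), r_P4_O3 S, t (r_P4_O3 S), r_Z4_O3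 S, t (r_Z4_O3 S), r_O1_O0 S, t (r_O1_O0 S), r_Z2_P1 S, t (r_Z2_P1 S), r_P2_Z1 S, t (r_P2_Z1 S), r_Z2_Z1 S, t (r_Z2_Z1 S), r_O2_O1 S, t (r_O2_O1 S), r_Z3_P2 S, t (r_Z3_P2 S), r_P3_Z2 S, t (r_P3_Z2 S), r_Z3_Z2 S, t (r_Z3_Z2 S), r_O3_O2 S, t (r_O3_O2 S), r_Z4_P3 S, t (r_Z4_P3 S), r_P4_Z3 S, t (r_P4_Z3 S), r_Z4_Z3 S, t (r_Z4_Z3 S), r_Z2_O0 S, t (r_Z2_O0 S), r_O2_Z1 S, t (r_O2_Z1 S), r_Z3_O1 S, t (r_Z3_O1 S), r_O3_Z2 S, t (r_O3_Z2 S), r_Z4_O2 S, t (r_Z4_O2 S), r_O2_O0 S, t (r_O2_O0 S), r_P3_P1 S, t (r_P3_P1 S), r_Z3_P1 S, t (r_Z3_P1 S), r_P3_Z1 S, t (r_P3_Z1 S), r_Z3_Z1 S, t (r_Z3_Z1 S), r_O3_O1 S, t (r_O3_O1 S), r_P4_P2 S, t (r_P4_P2 S), r_Z4_P2 S, t (r_Z4_P2 S), r_P4_Z2 S, t (r_P4_Z2 S), r_Z4_Z2 S, t (r_Z4_Z2 S),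 r_P2_P1 S, t (r_P2_P1 S), r_P3_P2 S, t (r_P3_P2 S), r_P4_P3 S, t (r_P4_P3 S), r_P2_O0 S, t (r_P2_O0 S), r_O2_P1 S, t (r_O2_P1 S), r_P3_O1 S, t (r_P3_O1 S), r_O3_P2 S, t (r_O3_P2 S), r_P4_O2 S, t (r_P4_O2 S), r_P3_O0 S, t (r_P3_O0 S), r_Z3_O0 S, t (r_Z3_O0 S), r_O3_P1 S, t (r_O3_P1 S), r_O3_Z1 S, t (r_O3_Z1 S), r_P4_O1 S, t (r_P4_O1 S), r_Z4_O1 S, t (r_Z4_O1 S), r_O3_O0 S, t (r_O3_O0 S), r_P4_P1 S, t (r_P4_P1 S), r_Z4_P1 S, t (r_Z4_P1 S), r_P4_Z1 S, t (r_P4_Z1 S), r_Z4_Z1 S, t (r_Z4_Z1 S)]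

theorem r_Z4_O0 : S.e 4 0 1 * S.o 0 1 = S.o 0 1 * (S.e 4 0 1 * (S.e 1 0 1 * (S.o 1 1 * (S.e 2 1 0 * (S.e 3 1 0 * S.o 3 1))))) := by
  refine rel_of (c := S.e 1 0 1 * (S.o 1 1 * (S.e 2 1 0 * (S.e 2 0 1 * (S.o 2 1 * (S.e 3 1 0 * S.o 3 1)))))) ?_ ?_
  · simpa [S.o_zero, S.e_zero, s_1, s_2, s_3, s_4, n11, n12, n13, n21, n22, n31, mul_assoc] using S.o_e4 0 1 0 1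
  · simp only [mul_assoc, mul_one, one_mul, r_O0 S, t (r_O0 S), r_O1 S, t (r_O1 S), r_O2 S, t (r_O2 S), r_O3 S, t (r_O3 S), r_P1 S, t (r_P1 S), r_P2 S, t (r_P2 S), r_P3 S, t (r_P3 S), r_P4 S, t (r_P4 S), r_Z1 S, t (r_Z1 S), r_Z2 S, t (r_Z2 S), r_Z3 S, t (r_Z3 S), r_Z4 S, t (r_Z4 S), r_ZP1 S, t (r_ZP1 S), r_ZP2 S, t (r_ZP2 S), r_ZP3 S, t (r_ZP3 S), r_ZP4 S, t (r_ZP4 S), r_P1_O0 S, t (r_P1_O0 S), r_Z1_O0 S, t (r_Z1_O0 S), r_O1_P1 S, t (r_O1_P1 S), r_O1_Z1 S, t (r_O1_Z1 S), r_P2_O1 S, t (r_P2_O1 S), r_Z2_O1 S, t (r_Z2_O1 S), r_O2_P2 S, t (r_O2_P2 S), r_O2_Z2 S, t (r_O2_Z2 S), r_P3_O2 S, t (r_P3_O2 S), r_Z3_O2 S, t (r_Z3_O2 S), r_O3_P3 S, t (r_O3_P3 S), r_O3_Z3 S, t (r_O3_Z3 S), r_P4_O3 S, t (r_P4_O3 S), r_Z4_O3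 S, t (r_Z4_O3 S), r_O1_O0 S, t (r_O1_O0 S), r_Z2_P1 S, t (r_Z2_P1 S), r_P2_Z1 S, t (r_P2_Z1 S), r_Z2_Z1 S, t (r_Z2_Z1 S), r_O2_O1 S, t (r_O2_O1 S), r_Z3_P2 S, t (r_Z3_P2 S), r_P3_Z2 S, t (r_P3_Z2 S), r_Z3_Z2 S, t (r_Z3_Z2 S), r_O3_O2 S, t (r_O3_O2 S), r_Z4_P3 S, t (r_Z4_P3 S), r_P4_Z3 S, t (r_P4_Z3 S), r_Z4_Z3 S, t (r_Z4_Z3 S), r_Z2_O0 S, t (r_Z2_O0 S), r_O2_Z1 S, t (r_O2_Z1 S), r_Z3_O1 S, t (r_Z3_O1 S), r_O3_Z2 S, t (r_O3_Z2 S), r_Z4_O2 S, t (r_Z4_O2 S), r_O2_O0 S, t (r_O2_O0 S), r_P3_P1 S, t (r_P3_P1 S), r_Z3_P1 S, t (r_Z3_P1 S), r_P3_Z1 S, t (r_P3_Z1 S), r_Z3_Z1 S, t (r_Z3_Z1 S), r_O3_O1 S, t (r_O3_O1 S), r_P4_P2 S, t (r_P4_P2 S), r_Z4_P2 S, t (r_Z4_P2 S), r_P4_Z2 S, t (r_P4_Z2 S), r_Z4_Z2 S, t (r_Z4_Z2 S),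 r_P2_P1 S, t (r_P2_P1 S), r_P3_P2 S, t (r_P3_P2 S), r_P4_P3 S, t (r_P4_P3 S), r_P2_O0 S, t (r_P2_O0 S), r_O2_P1 S, t (r_O2_P1 S), r_P3_O1 S, t (r_P3_O1 S), r_O3_P2 S, t (r_O3_P2 S), r_P4_O2 S, t (r_P4_O2 S), r_P3_O0 S, t (r_P3_O0 S), r_Z3_O0 S, t (r_Z3_O0 S), r_O3_P1 S, t (r_O3_P1 S), r_O3_Z1 S, t (r_O3_Z1 S), r_P4_O1 S, t (r_P4_O1 S), r_Z4_O1 S, t (r_Z4_O1 S), r_O3_O0 S, t (r_O3_O0 S), r_P4_P1 S, t (r_P4_P1 S), r_Z4_P1 S, t (r_Z4_P1 S), r_P4_Z1 S, t (r_P4_Z1 S), r_Z4_Z1 S, t (r_Z4_Z1 S), r_P4_O0 S, t (r_P4_O0 S)]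

/-- the element -/
def x : G := S.o 0 1 * (S.e 2 1 0 * S.e 4 1 0)

theorem x2 : x S * x S = S.e 1 1 0 * (S.e 1 0 1 * (S.e 3 1 0 * (S.o 3 1 * S.e 4 0 1))) := by
  unfold x
  simp only [mul_assoc, mul_one, one_mul, r_O0 S, t (r_O0 S), r_O1 S, t (r_O1 S), r_O2 S, t (r_O2 S), r_O3 S, t (r_O3 S), r_P1 S, t (r_P1 S), r_P2 S, t (r_P2 S), r_P3 S, t (r_P3 S), r_P4 S, t (r_P4 S), r_Z1 S, t (r_Z1 S), r_Z2 S, t (r_Z2 S), r_Z3 S, t (r_Z3 S), r_Z4 S, t (r_Z4 S), r_ZP1 S, t (r_ZP1 S), r_ZP2 S, t (r_ZP2 S), r_ZP3 S, t (r_ZP3 S), r_ZP4 S, t (r_ZP4 S), r_P1_O0 S, t (r_P1_O0 S), r_Z1_O0 S, t (r_Z1_O0 S), r_O1_P1 S, t (r_O1_P1 S), r_O1_Z1 S, t (r_O1_Z1 S), r_P2_O1 S, t (r_P2_O1 S), r_Z2_O1 S, t (r_Z2_O1 S), r_O2_P2 S, t (r_O2_P2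 S), r_O2_Z2 S, t (r_O2_Z2 S), r_P3_O2 S, t (r_P3_O2 S), r_Z3_O2 S, t (r_Z3_O2 S), r_O3_P3 S, t (r_O3_P3 S), r_O3_Z3 S, t (r_O3_Z3 S), r_P4_O3 S, t (r_P4_O3 S), r_Z4_O3 S, t (r_Z4_O3 S), r_O1_O0 S, t (r_O1_O0 S), r_Z2_P1 S, t (r_Z2_P1 S), r_P2_Z1 S, t (r_P2_Z1 S), r_Z2_Z1 S, t (r_Z2_Z1 S), r_O2_O1 S, t (r_O2_O1 S), r_Z3_P2 S, t (r_Z3_P2 S), r_P3_Z2 S, t (r_P3_Z2 S), r_Z3_Z2 S, t (r_Z3_Z2 S), r_O3_O2 S, t (r_O3_O2 S), r_Z4_P3 S, t (r_Z4_P3 S), r_P4_Z3 S, t (r_P4_Z3 S), r_Z4_Z3 S, t (r_Z4_Z3 S), r_Z2_O0 S, t (r_Z2_O0 S), r_O2_Z1 S, t (r_O2_Z1 S), r_Z3_O1 S, t (r_Z3_O1 S), r_O3_Z2 S, t (r_O3_Z2 S), r_Z4_O2 S, t (r_Z4_O2 S), r_O2_O0 S, t (r_O2_O0 S), r_P3_P1 S, t (r_P3_P1 S), r_Z3_P1 S, t (r_Z3_P1 S), r_P3_Z1 S, t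 (r_P3_Z1 S), r_Z3_Z1 S, t (r_Z3_Z1 S), r_O3_O1 S, t (r_O3_O1 S), r_P4_P2 S, t (r_P4_P2 S), r_Z4_P2 S, t (r_Z4_P2 S), r_P4_Z2 S, t (r_P4_Z2 S), r_Z4_Z2 S, t (r_Z4_Z2 S), r_P2_P1 S, t (r_P2_P1 S), r_P3_P2 S, t (r_P3_P2 S), r_P4_P3 S, t (r_P4_P3 S), r_P2_O0 S, t (r_P2_O0 S), r_O2_P1 S, t (r_O2_P1 S), r_P3_O1 S, t (r_P3_O1 S), r_O3_P2 S, t (r_O3_P2 S), r_P4_O2 S, t (r_P4_O2 S), r_P3_O0 S, t (r_P3_O0 S), r_Z3_O0 S, t (r_Z3_O0 S), r_O3_P1 S, t (r_O3_P1 S), r_O3_Z1 S, t (r_O3_Z1 S), r_P4_O1 S, t (r_P4_O1 S), r_Z4_O1 S, t (r_Z4_O1 S), r_O3_O0 S, t (r_O3_O0 S), r_P4_P1 S, t (r_P4_P1 S), r_Z4_P1 S, t (r_Z4_P1 S), r_P4_Z1 S, t (r_P4_Z1 S), r_Z4_Z1 S, t (r_Z4_Z1 S), r_P4_O0 S, t (r_P4_O0 S), r_Z4_O0 S, t (r_Z4_O0 S)]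

theorem x4 : (S.e 1 1 0 * (S.e 1 0 1 * (S.e 3 1 0 * (S.o 3 1 * S.e 4 0 1)))) * (S.e 1 1 0 * (S.e 1 0 1 * (S.e 3 1 0 * (S.o 3 1 * S.e 4 0 1)))) = S.e 1 0 1 * (S.e 2 0 1 * S.o 3 1) := by
  simp only [mul_assoc, mul_one, one_mul, r_O0 S, t (r_O0 S), r_O1 S, t (r_O1 S), r_O2 S, t (r_O2 S), r_O3 S, t (r_O3 S), r_P1 S, t (r_P1 S), r_P2 S, t (r_P2 S), r_P3 S, t (r_P3 S), r_P4 S, t (r_P4 S), r_Z1 S, t (r_Z1 S), r_Z2 S, t (r_Z2 S), r_Z3 S, t (r_Z3 S), r_Z4 S, t (r_Z4 S), r_ZP1 S, t (r_ZP1 S), r_ZP2 S, t (r_ZP2 S), r_ZP3 S, t (r_ZP3 S), r_ZP4 S, t (r_ZP4 S), r_P1_O0 S, t (r_P1_O0 S), r_Z1_O0 S, t (r_Z1_O0 S), r_O1_P1 S, t (r_O1_P1 S), r_O1_Z1 S, t (r_O1_Z1 S), r_P2_O1 S, t (r_P2_O1 S), r_Z2_O1 S, t (r_Z2_O1 S), r_O2_P2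 S, t (r_O2_P2 S), r_O2_Z2 S, t (r_O2_Z2 S), r_P3_O2 S, t (r_P3_O2 S), r_Z3_O2 S, t (r_Z3_O2 S), r_O3_P3 S, t (r_O3_P3 S), r_O3_Z3 S, t (r_O3_Z3 S), r_P4_O3 S, t (r_P4_O3 S), r_Z4_O3 S, t (r_Z4_O3 S), r_O1_O0 S, t (r_O1_O0 S), r_Z2_P1 S, t (r_Z2_P1 S), r_P2_Z1 S, t (r_P2_Z1 S), r_Z2_Z1 S, t (r_Z2_Z1 S), r_O2_O1 S, t (r_O2_O1 S), r_Z3_P2 S, t (r_Z3_P2 S), r_P3_Z2 S, t (r_P3_Z2 S), r_Z3_Z2 S, t (r_Z3_Z2 S), r_O3_O2 S, t (r_O3_O2 S), r_Z4_P3 S, t (r_Z4_P3 S), r_P4_Z3 S, t (r_P4_Z3 S), r_Z4_Z3 S, t (r_Z4_Z3 S), r_Z2_O0 S, t (r_Z2_O0 S), r_O2_Z1 S, t (r_O2_Z1 S), r_Z3_O1 S, t (r_Z3_O1 S), r_O3_Z2 S, t (r_O3_Z2 S), r_Z4_O2 S, t (r_Z4_O2 S), r_O2_O0 S, t (r_O2_O0 S), r_P3_P1 S, t (r_P3_P1 S), r_Z3_P1 S, t (r_Z3_P1 S),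 r_P3_Z1 S, t (r_P3_Z1 S), r_Z3_Z1 S, t (r_Z3_Z1 S), r_O3_O1 S, t (r_O3_O1 S), r_P4_P2 S, t (r_P4_P2 S), r_Z4_P2 S, t (r_Z4_P2 S), r_P4_Z2 S, t (r_P4_Z2 S), r_Z4_Z2 S, t (r_Z4_Z2 S), r_P2_P1 S, t (r_P2_P1 S), r_P3_P2 S, t (r_P3_P2 S), r_P4_P3 S, t (r_P4_P3 S), r_P2_O0 S, t (r_P2_O0 S), r_O2_P1 S, t (r_O2_P1 S), r_P3_O1 S, t (r_P3_O1 S), r_O3_P2 S, t (r_O3_P2 S), r_P4_O2 S, t (r_P4_O2 S), r_P3_O0 S, t (r_P3_O0 S), r_Z3_O0 S, t (r_Z3_O0 S), r_O3_P1 S, t (r_O3_P1 S), r_O3_Z1 S, t (r_O3_Z1 S), r_P4_O1 S, t (r_P4_O1 S), r_Z4_O1 S, t (r_Z4_O1 S), r_O3_O0 S, t (r_O3_O0 S), r_P4_P1 S, t (r_P4_P1 S), r_Z4_P1 S, t (r_Z4_P1 S), r_P4_Z1 S, t (r_P4_Z1 S), r_Z4_Z1 S, t (r_Z4_Z1 S), r_P4_O0 S, t (r_P4_O0 S), r_Z4_O0 S, t (r_Z4_O0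 S)]

theorem x8 : (S.e 1 0 1 * (S.e 2 0 1 * S.o 3 1)) * (S.e 1 0 1 * (S.e 2 0 1 * S.o 3 1)) = S.e 2 0 1 := by
  simp only [mul_assoc, mul_one, one_mul, r_O0 S, t (r_O0 S), r_O1 S, t (r_O1 S), r_O2 S, t (r_O2 S), r_O3 S, t (r_O3 S), r_P1 S, t (r_P1 S), r_P2 S, t (r_P2 S), r_P3 S, t (r_P3 S), r_P4 S, t (r_P4 S), r_Z1 S, t (r_Z1 S), r_Z2 S, t (r_Z2 S), r_Z3 S, t (r_Z3 S), r_Z4 S, t (r_Z4 S), r_ZP1 S, t (r_ZP1 S), r_ZP2 S, t (r_ZP2 S), r_ZP3 S, t (r_ZP3 S), r_ZP4 S, t (r_ZP4 S), r_P1_O0 S, t (r_P1_O0 S), r_Z1_O0 S, t (r_Z1_O0 S), r_O1_P1 S, t (r_O1_P1 S), r_O1_Z1 S, t (r_O1_Z1 S), r_P2_O1 S, t (r_P2_O1 S), r_Z2_O1 S, t (r_Z2_O1 S), r_O2_P2 S, t (r_O2_P2 S), r_O2_Z2 S, t (r_O2_Z2 S), r_P3_O2 S, t (r_P3_O2 S), r_Z3_O2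 S, t (r_Z3_O2 S), r_O3_P3 S, t (r_O3_P3 S), r_O3_Z3 S, t (r_O3_Z3 S), r_P4_O3 S, t (r_P4_O3 S), r_Z4_O3 S, t (r_Z4_O3 S), r_O1_O0 S, t (r_O1_O0 S), r_Z2_P1 S, t (r_Z2_P1 S), r_P2_Z1 S, t (r_P2_Z1 S), r_Z2_Z1 S, t (r_Z2_Z1 S), r_O2_O1 S, t (r_O2_O1 S), r_Z3_P2 S, t (r_Z3_P2 S), r_P3_Z2 S, t (r_P3_Z2 S), r_Z3_Z2 S, t (r_Z3_Z2 S), r_O3_O2 S, t (r_O3_O2 S), r_Z4_P3 S, t (r_Z4_P3 S), r_P4_Z3 S, t (r_P4_Z3 S), r_Z4_Z3 S, t (r_Z4_Z3 S), r_Z2_O0 S, t (r_Z2_O0 S), r_O2_Z1 S, t (r_O2_Z1 S), r_Z3_O1 S, t (r_Z3_O1 S), r_O3_Z2 S, t (r_O3_Z2 S), r_Z4_O2 S, t (r_Z4_O2 S), r_O2_O0 S, t (r_O2_O0 S), r_P3_P1 S, t (r_P3_P1 S), r_Z3_P1 S, t (r_Z3_P1 S), r_P3_Z1 S, t (r_P3_Z1 S), r_Z3_Z1 S, t (r_Z3_Z1 S), r_O3_O1 S, t (r_O3_O1 S),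 r_P4_P2 S, t (r_P4_P2 S), r_Z4_P2 S, t (r_Z4_P2 S), r_P4_Z2 S, t (r_P4_Z2 S), r_Z4_Z2 S, t (r_Z4_Z2 S), r_P2_P1 S, t (r_P2_P1 S), r_P3_P2 S, t (r_P3_P2 S), r_P4_P3 S, t (r_P4_P3 S), r_P2_O0 S, t (r_P2_O0 S), r_O2_P1 S, t (r_O2_P1 S), r_P3_O1 S, t (r_P3_O1 S), r_O3_P2 S, t (r_O3_P2 S), r_P4_O2 S, t (r_P4_O2 S), r_P3_O0 S, t (r_P3_O0 S), r_Z3_O0 S, t (r_Z3_O0 S), r_O3_P1 S, t (r_O3_P1 S), r_O3_Z1 S, t (r_O3_Z1 S), r_P4_O1 S, t (r_P4_O1 S), r_Z4_O1 S, t (r_Z4_O1 S), r_O3_O0 S, t (r_O3_O0 S), r_P4_P1 S, t (r_P4_P1 S), r_Z4_P1 S, t (r_Z4_P1 S), r_P4_Z1 S, t (r_P4_Z1 S), r_Z4_Z1 S, t (r_Z4_Z1 S), r_P4_O0 S, t (r_P4_O0 S), r_Z4_O0 S, t (r_Z4_O0 S)]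

theorem x_pow : x S ^ 8 = S.e 2 0 1 := by
  rw [show x S ^ 8 = ((x S * x S) * (x S * x S)) * ((x S * x S) * (x S * x S)) by
    simp only [pow_succ, pow_zero, one_mul, mul_assoc], x2, x4, x8]

end Cfsg.Agent.H368.SR.TwFPow
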